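import Groth.Agent.WeightLib.Separated
import Groth.Prelude.Def_EGA43
import Mathlib.AlgebraicGeometry.Artinian
import Mathlib.Data.Nat.Cast.Order.Ring

/-! Geometric number of points of the fibres of a quasi-finite morphism. -/

set_option autoImplicit false
set_option linter.style.haveILetI false
universe u

open AlgebraicGeometry CategoryTheory Limits IsLocalRing

namespace WeightLib

variable {X Y : Scheme.{u}}

theorem gptsAt_subsingleton_of_isSepClosed {P : Scheme.{u}} {K : Type u} [Field K] [IsSepClosed K]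
    (π : P ⟶ Spec (.of K)) [LocallyQuasiFinite π] {Ω : Type u} [Field Ω]
    (pv : Spec (.of Ω) ⟶ Spec (.of K)) (r s : GPts π pv) (h : img r.1 = img s.1) : r = s := by
  obtain ⟨c, hc⟩ := Spec.map_surjective (P.fromSpecResidueField (img r.1) ≫ π)
  obtain ⟨c₀, hc₀, hc₀fin⟩ := exists_residue_hom π (img r.1) (y := π (img r.1)) rfl
  obtain ⟨d, hd⟩ := Spec.map_surjective ((Spec (.of K)).fromSpecResidueField (π (img r.1)))
  have hdsurj : Function.Surjective d.hom := by
    haveI : IsPreimmersion (Spec.map d) := by rw [hd]; infer_instance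
    intro x
    obtain ⟨a, b, e, he, hb, heq⟩ := RingHom.surjectiveOnStalks_iff_forall_ideal.mp
      ((IsPreimmersion.SpecMap_iff d).mp ‹_›).2 ⊥ bot_ne_top x
    rw [Ideal.mem_bot] at he hb
    have hb' : b ≠ 0 := fun h ↦ hb (by rw [h, map_zero])
    have heq' : d.hom b * x = d.hom a := mul_left_cancel₀ he (by rw [← mul_assoc]; exact heq)
    refine ⟨(a : K) / (b : K), ?_⟩
    refine mul_left_cancel₀ hb ?_
    rw [heq', ← map_mul]
    congr 1
    exact mul_div_cancel₀ (a : K) hb'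
  have hcd : c = d ≫ c₀ := Spec.map_inj.mp (by rw [hc, Spec.map_comp, hd, hc₀])
  have hcfin : c.hom.Finite := by
    rw [hcd, CommRingCat.hom_comp]
    exact hc₀fin.comp (RingHom.Finite.of_surjective _ hdsurj)
  letI : Algebra K (P.residueField (img r.1)) := c.hom.toAlgebra
  haveI : FiniteDimensional K (P.residueField (img r.1)) := RingHom.finite_algebraMap.mp hcfin
  haveI : IsPurelyInseparable K (P.residueField (img r.1)) := inferInstance
  obtain ⟨e, he⟩ := exists_eq_specMap_fromSpecResidueField r.1 (x := img r.1) rfl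
  obtain ⟨e', he'⟩ := exists_eq_specMap_fromSpecResidueField s.1 (x := img r.1) h.symm
  have hce : c ≫ e = c ≫ e' := by
    apply Spec.map_inj.mp
    rw [Spec.map_comp, Spec.map_comp, hc, reassoc_of% he, reassoc_of% he', r.2, s.2]
  have : e = e' := CommRingCat.hom_ext (IsPurelyInseparable.injective_comp_algebraMap K
    (P.residueField (img r.1)) Ω (a₁ := e.hom) (a₂ := e'.hom) (congrArg CommRingCat.Hom.hom hce))
  exact Subtype.ext (by rw [← he, ← he', this])

theorem nGeomConnComp_eq (f : X ⟶ Y) [LocallyQuasiFinite f] [LocallyOfFiniteType f]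
    [QuasiCompact f] (y : Y) :
    MoreMor.nGeomConnComp f y = ((MoreMor.fibreIntegral f (fun _ ↦ 1) y).toNat : ℕ∞) := by
  classical
  let K := SeparableClosure (Y.residueField y)
  let s : Spec (.of K) ⟶ Spec (Y.residueField y) :=
    Spec.map (CommRingCat.ofHom (algebraMap (Y.residueField y) K))
  let P := pullback (f.fiberToSpecResidueField y) s
  let π : P ⟶ Spec (.of K) := pullback.snd (f.fiberToSpecResidueField y) s
  haveI : LocallyQuasiFinite π :=
    MorphismProperty.pullback_snd _ _ (MorphismProperty.pullback_snd _ _ ‹_›)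
  haveI : IsLocallyArtinian P := .of_locallyQuasiFinite π
  have hc : IsPullback (pullback.fst (f.fiberToSpecResidueField y) s ≫ f.fiberι y) π f
      (s ≫ Y.fromSpecResidueField y) :=
    (IsPullback.of_hasPullback _ _).paste_horiz (IsPullback.of_hasPullback _ _)
  let pt : Spec (.of K) := closedPoint K
  let pv := gpt (V := Spec (.of K)) pt
  let pv' := pv ≫ s ≫ Y.fromSpecResidueField y
  have himg : img pv' = y := by
    change img ((pv ≫ s) ≫ Y.fromSpecResidueField y) = y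
    rw [img_comp]
    exact Scheme.fromSpecResidueField_apply ..
  have hfin := f.finite_preimage_singleton y
  haveI := finite_gpts f pv' (by rw [himg]; exact hfin)
  letI := Fintype.ofFinite (GPts f pv')
  let e := gptsPullbackEquiv hc pv
  have hex : ∀ p : P, ∃ q : GPts π pv, img q.1 = p := fun p ↦
    exists_gpt π p pv (Subsingleton.elim _ _)
  choose q hq using hex
  have hbij : Function.Bijective fun p ↦ e (q p) := by
    refine e.bijective.comp ⟨fun a b h ↦ by rw [← hq a, ← hq b, h], fun r ↦ ⟨img r.1, ?_⟩⟩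
    exact gptsAt_subsingleton_of_isSepClosed π pv _ _ (hq _)
  have hcard : MoreMor.nGeomConnComp f y = ENat.card P :=
    ENat.card_congr (Equiv.ofBijective (fun x : P ↦ ConnectedComponents.mk x)
      ⟨fun a b h => by
        rw [ConnectedComponents.coe_eq_coe] at h
        have : a ∈ connectedComponent b := h ▸ mem_connectedComponent
        rwa [connectedComponent_eq_singleton, Set.mem_singleton_iff] at this,
      ConnectedComponents.surjective_coe⟩).symm
  rw [hcard, ENat.card_congr (Equiv.ofBijective _ hbij), fibreIntegral_eq f _ y hfin pv' himg,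
    finsum_eq_sum_of_fintype, ENat.card_eq_coe_natCard, Nat.card_eq_fintype_card]
  simp
  rfl

variable {f : X ⟶ Y} [LocallyQuasiFinite f] [LocallyOfFiniteType f] [IsSeparated f] [QuasiCompact f]

theorem exists_etale_lower_bound (y : Y) (ho : ∀ x, f x = y → EGA43.IsUnivOpenAt f x) :
    ∃ (V : Scheme.{u}) (g : V ⟶ Y) (_ : Etale g) (v : V) (N : V.Opens) (n : ℕ)
      (W : Fin n → (pullback f g).Opens), g v = y ∧ v ∈ N ∧
      (∀ i, IsFinite ((W i).ι ≫ pullback.snd f g)) ∧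
      ∀ q ∈ N, MoreMor.fibreIntegral f (fun _ ↦ 1) y ≤ MoreMor.fibreIntegral f (fun _ ↦ 1) (g q) ∧
        ∀ p, pullback.snd f g p = q → (∀ i, p ∉ W i) →
          MoreMor.fibreIntegral f (fun _ ↦ 1) y < MoreMor.fibreIntegral f (fun _ ↦ 1) (g q) := by
  classical
  have hfin := fun y : Y ↦ f.finite_preimage_singleton y
  obtain ⟨V, g, hg, v, hv, n, W, hW, hs, hd, hc⟩ := exists_split f y (f ⁻¹' {y}) (hfin y)
  haveI := fun i ↦ hW i
  let π := pullback.snd f g
  let a := pullback.fst f g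
  haveI : LocallyQuasiFinite π := MorphismProperty.pullback_snd _ _ ‹_›
  haveI : IsSeparated π := MorphismProperty.pullback_snd _ _ ‹_›
  have hsq : IsPullback a π f g := IsPullback.of_hasPullback _ _
  have hπfin : ∀ q, (π ⁻¹' {q}).Finite := fun q ↦ finite_preimage_baseChange hsq q (hfin _)
  have hclosed : ∀ i, IsClosed ((W i : (pullback f g).Opens) : Set ↥(pullback f g)) := fun i ↦ by
    haveI : IsFinite (W i).ι := IsFinite.of_comp _ π
    have := (W i).ι.isClosedMap.isClosed_range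
    rwa [Scheme.Opens.range_ι] at this
  let O := ⨆ i, W i
  have hOfin : ∀ q, ((O.ι ≫ π) ⁻¹' {q}).Finite := fun q ↦ by
    have := (hπfin q).preimage (f := fun u : O.toScheme ↦ (O.ι u : ↥(pullback f g)))
      O.ι.isOpenEmbedding.injective.injOn
    exact this
  let B : Set V := ⋃ (x : {x : Fin n × Fin n // x.1 ≠ x.2}),
    π '' ((W x.1.1 : Set ↥(pullback f g)) ∩ (W x.1.2 : Set ↥(pullback f g)))
  have hB : IsClosed B := isClosed_iUnion_of_finite fun x ↦
    isClosed_image_opens_inter π _ (hclosed _)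
  have hvB : v ∉ B := by
    simp only [B, Set.mem_iUnion]
    rintro ⟨⟨⟨i, j⟩, hij⟩, p, ⟨hi, hj⟩, hp⟩
    exact hij (hd p i j hp hi hj)
  have hsum : ∀ q ∉ B, MoreMor.fibreIntegral (O.ι ≫ π) (fun _ ↦ 1) q =
      ∑ i, MoreMor.fibreIntegral ((W i).ι ≫ π) (fun _ ↦ 1) q := fun q hq ↦ by
    refine fibreIntegral_eq_sum π O W (fun _ ↦ 1) q (hOfin q)
      (fun i ↦ Scheme.Hom.finite_preimage_singleton _ _)
      (fun p _ ↦ TopologicalSpace.Opens.mem_iSup) fun p i j hp hi hj ↦ ?_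
    by_contra hij
    exact hq (Set.mem_iUnion.mpr ⟨⟨(i, j), hij⟩, p, ⟨hi, hj⟩, hp⟩)
  have hfy : ∀ p, π p = v → f (a p) = y := fun p hp ↦ by
    rw [← Scheme.Hom.comp_apply, pullback.condition, Scheme.Hom.comp_apply, ← hv]
    exact congrArg g hp
  have hnhd : ∀ i, ∃ N : Set V, N ∈ nhds v ∧ ∀ q ∈ N,
      MoreMor.fibreIntegral ((W i).ι ≫ π) (fun _ ↦ 1) v ≤
        MoreMor.fibreIntegral ((W i).ι ≫ π) (fun _ ↦ 1) q := by
    intro i
    by_cases h : ∃ p, π p = v ∧ p ∈ W i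
    · obtain ⟨p, hp, hpW⟩ := h
      refine ⟨π '' (W i : Set ↥(pullback f g)), ?_, ?_⟩
      · rw [← hp]
        exact ho (a p) (hfy p hp) V g p rfl _ ((W i).isOpen.mem_nhds hpW)
      rintro _ ⟨p', hp', rfl⟩
      rw [(hs i).fibreIntegral_eq _ (u := ⟨p, hpW⟩) hp]
      exact le_fibreIntegral ((W i).ι ≫ π) (fun _ ↦ 1) (fun _ ↦ Int.one_nonneg) ⟨p', hp'⟩
        (Scheme.Hom.finite_preimage_singleton _ _)
    · refine ⟨Set.univ, Filter.univ_mem, fun q _ ↦ ?_⟩
      haveI : IsEmpty {u : (W i).toScheme // ((W i).ι ≫ π) u = v} :=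
        ⟨fun u ↦ h ⟨u.1.1, u.2, u.1.2⟩⟩
      rw [MoreMor.fibreIntegral, finsum_of_isEmpty]
      exact fibreIntegral_nonneg _ _ (fun _ ↦ Int.one_nonneg) q
  choose N₀ hN₀ hle using hnhd
  obtain ⟨N, hNsub, hNo, hvN⟩ :=
    mem_nhds_iff.mp ((Filter.iInter_mem (f := nhds v)).mpr hN₀)
  have hbc : ∀ q, MoreMor.fibreIntegral π (fun _ ↦ 1) q =
      MoreMor.fibreIntegral f (fun _ ↦ 1) (g q) :=
    fun q ↦ fibreIntegral_baseChange hsq (fun _ ↦ 1) q (hfin _)
  have hy : MoreMor.fibreIntegral f (fun _ ↦ 1) y =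
      MoreMor.fibreIntegral (O.ι ≫ π) (fun _ ↦ 1) v := by
    rw [← hv, ← hbc v]
    exact ((fibreIntegral_opens_le π O (fun _ ↦ 1) v (fun _ ↦ Int.one_nonneg) (hπfin v)).2.1
      fun p hp ↦ TopologicalSpace.Opens.mem_iSup.mpr (hc p hp (hfy p hp))).symm
  refine ⟨V, g, hg, v, (⟨N, hNo⟩ : V.Opens) ⊓ ⟨Bᶜ, hB.isOpen_compl⟩, n, W, hv, ⟨hvN, hvB⟩, hW,
    fun q hq ↦ ?_⟩
  have hq' : MoreMor.fibreIntegral f (fun _ ↦ 1) y ≤
      MoreMor.fibreIntegral (O.ι ≫ π) (fun _ ↦ 1) q := by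
    rw [hsum q hq.2, hy, hsum v hvB]
    exact Finset.sum_le_sum fun i _ ↦ hle i q (Set.mem_iInter.mp (hNsub hq.1) i)
  obtain ⟨h1, -, h3⟩ :=
    fibreIntegral_opens_le π O (fun _ ↦ 1) q (fun _ ↦ Int.one_nonneg) (hπfin q)
  rw [← hbc q]
  refine ⟨hq'.trans h1, fun p hp hpW ↦ ?_⟩
  have := h3 p hp fun h ↦ by
    obtain ⟨i, hi⟩ := TopologicalSpace.Opens.mem_iSup.mp h
    exact hpW i hi
  omega

omit [LocallyQuasiFinite f] [LocallyOfFiniteType f] [IsSeparated f] [QuasiCompact f] in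
/-- Descent of universal closedness from an etale neighbourhood covered by finite opens. -/
theorem universallyClosed_restrict_of_cover {V : Scheme.{u}} (g : V ⟶ Y) [Etale g] (N : V.Opens)
    {ι : Type} [Finite ι] (W : ι → (pullback f g).Opens)
    [∀ i, IsFinite ((W i).ι ≫ pullback.snd f g)]
    (hc : ∀ p, pullback.snd f g p ∈ N → ∃ i, p ∈ W i) :
    UniversallyClosed (f ∣_ (⟨g '' N, g.isOpenMap _ N.isOpen⟩ : Y.Opens)) := by
  let M : Y.Opens := ⟨g '' N, g.isOpenMap _ N.isOpen⟩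
  change UniversallyClosed (f ∣_ M)
  let k : N.toScheme ⟶ M.toScheme := g.resLE M N fun q hq ↦ ⟨q, hq, rfl⟩
  haveI : Surjective k := ⟨fun ⟨_, q, hq, rfl⟩ ↦ ⟨⟨q, hq⟩, Subtype.ext (by simp [k])⟩⟩
  let π := pullback.snd f g
  have hπN : IsPullback (π ⁻¹ᵁ N).ι (π ∣_ N) π N.ι := (isPullback_morphismRestrict π N).flip
  have hP' : IsPullback ((π ⁻¹ᵁ N).ι ≫ pullback.fst f g) (π ∣_ N) f (N.ι ≫ g) :=
    hπN.paste_horiz (IsPullback.of_hasPullback _ _)
  obtain ⟨m, hm, -⟩ := exists_isPullback_map (a' := (π ⁻¹ᵁ N).ι ≫ pullback.fst f g)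
    (π' := π ∣_ N) (g' := k ≫ M.ι) (isPullback_morphismRestrict f M).flip
    (by
      have : k ≫ M.ι = N.ι ≫ g := Scheme.Hom.resLE_comp_ι ..
      rw [this]
      exact hP') k rfl
  haveI : ∀ i, IsFinite (((π ⁻¹ᵁ N).ι ⁻¹ᵁ W i).ι ≫ π ∣_ N) := fun i ↦ isFinite_restrict hπN (W i)
  have hUC : UniversallyClosed (π ∣_ N) :=
    universallyClosed_of_cover _ (fun i ↦ (π ⁻¹ᵁ N).ι ⁻¹ᵁ W i) fun p ↦ hc p.1 p.2
  exact MorphismProperty.of_isPullback_of_descendsAlong (P := @UniversallyClosed)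
    (Q := @Surjective ⊓ @Flat ⊓ @LocallyOfFinitePresentation) hm.flip
    ⟨⟨‹_›, inferInstance⟩, inferInstance⟩ hUC

theorem nGeomConnComp_le_nhds (y : Y) (ho : ∀ x, f x = y → EGA43.IsUnivOpenAt f x) :
    ∃ V ∈ nhds y, ∀ z ∈ V, MoreMor.nGeomConnComp f y ≤ MoreMor.nGeomConnComp f z := by
  obtain ⟨V, g, _, v, N, n, W, rfl, hv, -, hN⟩ := exists_etale_lower_bound y ho
  refine ⟨g '' N, (g.isOpenMap _ N.isOpen).mem_nhds ⟨v, hv, rfl⟩, ?_⟩
  rintro _ ⟨q, hq, rfl⟩
  rw [nGeomConnComp_eq, nGeomConnComp_eq]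
  exact_mod_cast Int.toNat_le_toNat (hN q hq).1

theorem exists_proper_nhd (y : Y) (ho : ∀ x, f x = y → EGA43.IsUnivOpenAt f x)
    (hc : ∃ V ∈ nhds y, ∀ z ∈ V, MoreMor.nGeomConnComp f z = MoreMor.nGeomConnComp f y) :
    ∃ U : Y.Opens, y ∈ U ∧ IsProper (f ∣_ U) := by
  obtain ⟨S, hS, hSeq⟩ := hc
  obtain ⟨S', hS'S, hS'o, hyS'⟩ := mem_nhds_iff.mp hS
  obtain ⟨V, g, _, v, N, n, W, rfl, hv, hW, hN⟩ := exists_etale_lower_bound y ho
  haveI := hW
  let N' : V.Opens := N ⊓ ⟨g ⁻¹' S', hS'o.preimage g.continuous⟩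
  haveI := universallyClosed_restrict_of_cover (f := f) g N' W fun p hp ↦ by
    by_contra h
    have hlt := (hN _ hp.1).2 p rfl fun i hi ↦ h ⟨i, hi⟩
    have heq := hSeq _ (hS'S hp.2)
    rw [nGeomConnComp_eq, nGeomConnComp_eq, Nat.cast_inj] at heq
    have := fibreIntegral_nonneg f (fun _ ↦ 1) (fun _ ↦ Int.one_nonneg) (g v)
    omega
  exact ⟨⟨g '' N', g.isOpenMap _ N'.isOpen⟩, ⟨v, ⟨hv, hyS'⟩, rfl⟩, ⟨⟩⟩

omit [LocallyQuasiFinite f] [LocallyOfFiniteType f] [IsSeparated f] [QuasiCompact f] in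
theorem isUnivOpenAt_of_universallyOpen [UniversallyOpen f] (x : X) : EGA43.IsUnivOpenAt f x := by
  intro Y' g x' _ U hU
  haveI : UniversallyOpen (pullback.snd f g) := MorphismProperty.pullback_snd _ _ ‹_›
  exact (pullback.snd f g).isOpenMap.image_mem_nhds hU

end WeightLib
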