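import Mathlib.AlgebraicGeometry.Morphisms.Etale
import Mathlib.AlgebraicGeometry.Morphisms.QuasiFinite
import Mathlib.RingTheory.Unramified.Finite

/-! Etale morphisms are locally quasi-finite. -/

set_option autoImplicit false
universe u

open AlgebraicGeometry CategoryTheory

namespace WeightLib

theorem quasiFinite_of_etale {A B : Type u} [CommRing A] [CommRing B] [Algebra A B]
    [Algebra.Etale A B] : Algebra.QuasiFinite A B :=
  ⟨fun _ _ ↦ Algebra.FormallyUnramified.finite_of_free _ _⟩

theorem locallyQuasiFinite_of_etale {X Y : Scheme.{u}} (g : X ⟶ Y) [Etale g] :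
    LocallyQuasiFinite g := by
  refine HasRingHomProperty.iff_appLE.mpr fun U V e ↦ ?_
  have h : (g.appLE U.1 V.1 e).hom.Etale := g.etale_appLE U.2 V.2 e
  algebraize [(g.appLE U.1 V.1 e).hom]
  rw [RingHom.QuasiFinite]
  exact quasiFinite_of_etale

end WeightLib
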