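import Groth.Prelude.Def_MoreMor
import Mathlib.AlgebraicGeometry.Morphisms.QuasiFinite
import Mathlib.RingTheory.QuasiFinite.Basic
import Mathlib.FieldTheory.PurelyInseparable.Basic

/-! Fibre integrals computed with geometric points. -/

set_option autoImplicit false
set_option linter.style.haveILetI false
universe u

open AlgebraicGeometry CategoryTheory Limits IsLocalRing

namespace WeightLib

variable {U V : Scheme.{u}}

/-- The lifts along `π` of a field valued point of the target. -/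
abbrev GPts (π : U ⟶ V) {Ω : CommRingCat.{u}} (pv : Spec Ω ⟶ V) : Type u :=
  {p : Spec Ω ⟶ U // p ≫ π = pv}

/-- The image of a field valued point. -/
noncomputable def img {Ω : Type u} [Field Ω] (p : Spec (.of Ω) ⟶ U) : U :=
  p (closedPoint Ω)

theorem img_comp {Ω : Type u} [Field Ω] (p : Spec (.of Ω) ⟶ U) (π : U ⟶ V) :
    img (p ≫ π) = π (img p) := rfl

theorem img_specMap_fromSpecResidueField {Ω : Type u} [Field Ω] (x : U)
    (e : U.residueField x ⟶ .of Ω) : img (Spec.map e ≫ U.fromSpecResidueField x) = x := by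
  unfold img
  rw [Scheme.Hom.comp_apply]
  exact Scheme.fromSpecResidueField_apply (X := U) x _

theorem exists_eq_specMap_fromSpecResidueField {Ω : Type u} [Field Ω] (p : Spec (.of Ω) ⟶ U)
    {x : U} (hx : img p = x) :
    ∃ e : U.residueField x ⟶ .of Ω, Spec.map e ≫ U.fromSpecResidueField x = p := by
  subst hx
  exact ⟨_, Scheme.descResidueField_stalkClosedPointTo_fromSpecResidueField Ω U p⟩

theorem finite_residueFieldMap (π : U ⟶ V) [LocallyQuasiFinite π] (x : U) :
    (π.residueFieldMap x).hom.Finite := by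
  letI := (π.stalkMap x).hom.toAlgebra
  haveI : Algebra.QuasiFinite (V.presheaf.stalk (π x)) (U.presheaf.stalk x) :=
    RingHom.quasiFinite_algebraMap.mp (π.quasiFiniteAt x)
  haveI : IsLocalHom (algebraMap (V.presheaf.stalk (π x)) (U.presheaf.stalk x)) :=
    inferInstanceAs (IsLocalHom (π.stalkMap x).hom)
  haveI : Algebra.QuasiFinite (V.presheaf.stalk (π x)) (ResidueField (U.presheaf.stalk x)) :=
    Algebra.QuasiFinite.of_surjective_algHom
      (IsScalarTower.toAlgHom _ (U.presheaf.stalk x) _) residue_surjective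
  haveI : Algebra.QuasiFinite (ResidueField (V.presheaf.stalk (π x)))
      (ResidueField (U.presheaf.stalk x)) :=
    .of_restrictScalars (V.presheaf.stalk (π x)) _ _
  haveI : Module.Finite (ResidueField (V.presheaf.stalk (π x)))
      (ResidueField (U.presheaf.stalk x)) := Module.Finite.of_quasiFinite
  exact RingHom.finite_algebraMap.mpr this

/-- Lifts of `Spec Ω ⟶ V` at a given point of the source correspond to embeddings of the residue
field. -/
noncomputable def gptsAtEquiv (π : U ⟶ V) (x : U) {Ω : Type u} [Field Ω]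
    (ev : V.residueField (π x) ⟶ .of Ω) :
    {p : GPts π (Spec.map ev ≫ V.fromSpecResidueField (π x)) // img p.1 = x} ≃
      {e : U.residueField x ⟶ .of Ω // π.residueFieldMap x ≫ e = ev} :=
  (Equiv.ofBijective
    (fun e ↦ ⟨⟨Spec.map e.1 ≫ U.fromSpecResidueField x, by
      rw [Category.assoc, ← Scheme.Hom.SpecMap_residueFieldMap_fromSpecResidueField,
        ← Spec.map_comp_assoc, e.2]⟩, img_specMap_fromSpecResidueField x e.1⟩)
    ⟨fun a b h ↦ Subtype.ext (Spec.map_inj.mp
        ((cancel_mono (U.fromSpecResidueField x)).mp (congrArg (fun q ↦ q.1.1) h))),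
      fun ⟨⟨p, hp⟩, hx⟩ ↦ by
        obtain ⟨e, rfl⟩ := exists_eq_specMap_fromSpecResidueField p hx
        refine ⟨⟨e, ?_⟩, rfl⟩
        apply Spec.map_inj.mp
        rw [← cancel_mono (V.fromSpecResidueField (π x)), Spec.map_comp, Category.assoc,
          Scheme.Hom.SpecMap_residueFieldMap_fromSpecResidueField, ← Category.assoc]
        exact hp⟩).symm

/-- Embeddings of the residue field over the base, as algebra homomorphisms. -/
noncomputable def embEquiv {k L : CommRingCat.{u}} {Ω : CommRingCat.{u}} (φ : k ⟶ L) (ev : k ⟶ Ω) :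
    letI := φ.hom.toAlgebra
    letI := ev.hom.toAlgebra
    {e : L ⟶ Ω // φ ≫ e = ev} ≃ (L →ₐ[k] Ω) :=
  letI := φ.hom.toAlgebra
  letI := ev.hom.toAlgebra
  { toFun e := { toRingHom := e.1.hom, commutes' := fun r ↦ congr($(e.2).hom r) }
    invFun e := ⟨CommRingCat.ofHom e.toRingHom, by ext r; exact e.commutes r⟩
    left_inv _ := rfl
    right_inv _ := rfl }

theorem card_gptsAt (π : U ⟶ V) [LocallyQuasiFinite π] (x : U) {Ω : Type u} [Field Ω]
    [IsAlgClosed Ω] (pv : Spec (.of Ω) ⟶ V) (hv : π x = img pv) :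
    Finite {p : GPts π pv // img p.1 = x} ∧
      Nat.card {p : GPts π pv // img p.1 = x} =
        (letI := (π.residueFieldMap x).hom.toAlgebra
         Field.finSepDegree (V.residueField (π x)) (U.residueField x)) ∧
      0 < Nat.card {p : GPts π pv // img p.1 = x} := by
  obtain ⟨ev, rfl⟩ := exists_eq_specMap_fromSpecResidueField pv hv.symm
  letI := (π.residueFieldMap x).hom.toAlgebra
  letI : Algebra (V.residueField (π x)) Ω := ev.hom.toAlgebra
  haveI : Module.Finite (V.residueField (π x)) (U.residueField x) :=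
    RingHom.finite_algebraMap.mp (finite_residueFieldMap π x)
  let e := (gptsAtEquiv π x ev).trans (embEquiv (π.residueFieldMap x) ev)
  haveI : Finite ((U.residueField x) →ₐ[V.residueField (π x)] Ω) := inferInstance
  haveI : Nonempty ((U.residueField x) →ₐ[V.residueField (π x)] Ω) :=
    ⟨IsAlgClosed.lift⟩
  haveI := Finite.of_equiv _ e.symm
  refine ⟨inferInstance, ?_, ?_⟩
  · rw [Nat.card_congr e]
    exact (Field.finSepDegree_eq_of_isAlgClosed _ _ Ω).symm
  · rw [Nat.card_congr e]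
    exact Nat.card_pos

theorem img_mem_fibre (π : U ⟶ V) {Ω : Type u} [Field Ω] {pv : Spec (.of Ω) ⟶ V}
    (p : GPts π pv) : π (img p.1) = img pv := by
  rw [← img_comp, p.2]

theorem exists_gpt (π : U ⟶ V) [LocallyQuasiFinite π] (x : U) {Ω : Type u} [Field Ω]
    [IsAlgClosed Ω] (pv : Spec (.of Ω) ⟶ V) (hv : π x = img pv) :
    ∃ p : GPts π pv, img p.1 = x := by
  obtain ⟨⟨p, hp⟩⟩ := (Nat.card_pos_iff.mp (card_gptsAt π x pv hv).2.2).1
  exact ⟨p, hp⟩

theorem finite_gpts (π : U ⟶ V) [LocallyQuasiFinite π] {Ω : Type u} [Field Ω] [IsAlgClosed Ω]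
    (pv : Spec (.of Ω) ⟶ V) (hfin : (π ⁻¹' {img pv}).Finite) : Finite (GPts π pv) := by
  haveI := hfin.to_subtype
  haveI : ∀ x : π ⁻¹' {img pv}, Finite {p : GPts π pv // img p.1 = x.1} :=
    fun x ↦ (card_gptsAt π x.1 pv x.2).1
  exact Finite.of_equiv (Σ x : π ⁻¹' {img pv}, {p : GPts π pv // img p.1 = x.1})
    { toFun s := s.2.1
      invFun p := ⟨⟨img p.1, img_mem_fibre π p⟩, p, rfl⟩
      left_inv := by rintro ⟨⟨x, hx⟩, p, hp⟩; change img p.1 = x at hp; subst hp; rfl
      right_inv _ := rfl }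

/-- The fibre integral is the sum over the geometric points of the fibre. -/
theorem fibreIntegral_eq (π : U ⟶ V) [LocallyQuasiFinite π] (w : U → ℤ) (v : V)
    (hfin : (π ⁻¹' {v}).Finite) {Ω : Type u} [Field Ω] [IsAlgClosed Ω]
    (pv : Spec (.of Ω) ⟶ V) (hv : img pv = v) :
    MoreMor.fibreIntegral π w v = ∑ᶠ p : GPts π pv, w (img p.1) := by
  classical
  subst hv
  haveI := finite_gpts π pv hfin
  haveI : Finite {x : U // π x = img pv} := hfin.to_subtype
  letI := Fintype.ofFinite (GPts π pv)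
  letI := Fintype.ofFinite {x : U // π x = img pv}
  rw [MoreMor.fibreIntegral, finsum_eq_sum_of_fintype, finsum_eq_sum_of_fintype,
    ← Finset.sum_fiberwise (Finset.univ : Finset (GPts π pv))
      (fun p ↦ (⟨img p.1, img_mem_fibre π p⟩ : {x : U // π x = img pv})) (fun p ↦ w (img p.1))]
  refine Finset.sum_congr rfl fun x _ ↦ ?_
  obtain ⟨-, hc, -⟩ := card_gptsAt π x.1 pv x.2
  rw [← hc, Finset.sum_congr rfl (g := fun _ ↦ w x.1), Finset.sum_const, nsmul_eq_mul,
    mul_comm, ← Fintype.card_subtype, ← Nat.card_eq_fintype_card]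
  · congr 2
    exact Nat.card_congr (Equiv.subtypeEquivRight fun p ↦ ⟨fun h ↦ Subtype.ext h, fun h ↦ congrArg Subtype.val h⟩)
  · intro p hp
    rw [← (Finset.mem_filter.mp hp).2]

/-- A chosen geometric point over a point. -/
noncomputable def gpt (v : V) : Spec (.of (AlgebraicClosure (V.residueField v))) ⟶ V :=
  Spec.map (CommRingCat.ofHom (algebraMap (V.residueField v) _)) ≫ V.fromSpecResidueField v

theorem img_gpt (v : V) : img (gpt v) = v := img_specMap_fromSpecResidueField ..

/-- `π` has a single geometric point over `v` (with only the uniqueness part). -/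
def GSingle (π : U ⟶ V) (v : V) : Prop :=
  ∀ (Ω : Type u) [Field Ω] (pv : Spec (.of Ω) ⟶ V), img pv = v → Subsingleton (GPts π pv)

theorem GSingle.eq {π : U ⟶ V} [LocallyQuasiFinite π] {v : V} (h : GSingle π v) {a b : U}
    (ha : π a = v) (hb : π b = v) : a = b := by
  obtain ⟨p, hp⟩ := exists_gpt π a (gpt v) (ha.trans (img_gpt v).symm)
  obtain ⟨q, hq⟩ := exists_gpt π b (gpt v) (hb.trans (img_gpt v).symm)
  rw [← hp, ← hq, (h _ _ (img_gpt v)).elim p q]

theorem GSingle.preimage_finite {π : U ⟶ V} [LocallyQuasiFinite π] {v : V} (h : GSingle π v) :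
    (π ⁻¹' {v}).Finite :=
  Set.Subsingleton.finite fun _ ha _ hb ↦ h.eq ha hb

theorem GSingle.fibreIntegral_eq {π : U ⟶ V} [LocallyQuasiFinite π] {v : V} (h : GSingle π v)
    (w : U → ℤ) {u : U} (hu : π u = v) : MoreMor.fibreIntegral π w v = w u := by
  rw [WeightLib.fibreIntegral_eq π w v h.preimage_finite (gpt v) (img_gpt v)]
  obtain ⟨p, hp⟩ := exists_gpt π u (gpt v) (hu.trans (img_gpt v).symm)
  rw [finsum_eq_single _ p fun q hq ↦ (hq ((h _ _ (img_gpt v)).elim q p)).elim, hp]

/-- Geometric points of a pullback. -/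
noncomputable def gptsPullbackEquiv {U' V' : Scheme.{u}} {π : U ⟶ V} {π' : U' ⟶ V'} {h : U' ⟶ U}
    {g : V' ⟶ V} (hc : IsPullback h π' π g) {Ω : CommRingCat.{u}} (pv : Spec Ω ⟶ V') :
    GPts π' pv ≃ GPts π (pv ≫ g) where
  toFun p := ⟨p.1 ≫ h, by rw [Category.assoc, hc.w, ← Category.assoc, p.2]⟩
  invFun q := ⟨hc.lift q.1 pv q.2, hc.lift_snd ..⟩
  left_inv p := Subtype.ext (hc.hom_ext (by simp) (by simp [p.2]))
  right_inv q := Subtype.ext (by simp)

theorem GSingle.baseChange {U' V' : Scheme.{u}} {π : U ⟶ V} {π' : U' ⟶ V'} {h : U' ⟶ U}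
    {g : V' ⟶ V} (hc : IsPullback h π' π g) {v : V} (hs : GSingle π v) {v' : V'} (hv : g v' = v) :
    GSingle π' v' := by
  intro Ω _ pv hpv
  haveI := hs Ω (pv ≫ g) (by rw [img_comp, hpv, hv])
  exact (gptsPullbackEquiv hc pv).subsingleton

theorem finite_preimage_baseChange {U' V' : Scheme.{u}} {π : U ⟶ V} [LocallyQuasiFinite π]
    {π' : U' ⟶ V'} [LocallyQuasiFinite π'] {h : U' ⟶ U} {g : V' ⟶ V} (hc : IsPullback h π' π g)
    (v' : V') (hfin : (π ⁻¹' {g v'}).Finite) : (π' ⁻¹' {v'}).Finite := by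
  haveI : Finite (GPts π (gpt v' ≫ g)) := finite_gpts π _ (by rw [img_comp, img_gpt]; exact hfin)
  haveI := Finite.of_equiv _ (gptsPullbackEquiv hc (gpt v')).symm
  refine (Set.finite_range (fun p : GPts π' (gpt v') ↦ img p.1)).subset fun u hu ↦ ?_
  obtain ⟨p, hp⟩ := exists_gpt π' u (gpt v') (Eq.trans hu (img_gpt v').symm)
  exact ⟨p, hp⟩

/-- Base change formula for fibre integrals. -/
theorem fibreIntegral_baseChange {U' V' : Scheme.{u}} {π : U ⟶ V} [LocallyQuasiFinite π]
    {π' : U' ⟶ V'} {h : U' ⟶ U} {g : V' ⟶ V} (hc : IsPullback h π' π g) (w : U → ℤ) (v' : V')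
    (hfin : (π ⁻¹' {g v'}).Finite) :
    MoreMor.fibreIntegral π' (fun u ↦ w (h u)) v' = MoreMor.fibreIntegral π w (g v') := by
  haveI : LocallyQuasiFinite π' := MorphismProperty.of_isPullback hc ‹_›
  rw [fibreIntegral_eq π' _ v' (finite_preimage_baseChange hc v' hfin) (gpt v') (img_gpt v'),
    fibreIntegral_eq π w (g v') hfin (gpt v' ≫ g) (by rw [img_comp, img_gpt]),
    ← finsum_comp_equiv (gptsPullbackEquiv hc (gpt v'))]
  rfl

/-- Composition formula: the fibre integral of a composite is the iterated one. -/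
noncomputable def gptsCompEquiv {W : Scheme.{u}} (p : U ⟶ V) (q : V ⟶ W) {Ω : CommRingCat.{u}}
    (pv : Spec Ω ⟶ W) : GPts (p ≫ q) pv ≃ Σ t : GPts q pv, GPts p t.1 where
  toFun s := ⟨⟨s.1 ≫ p, by rw [Category.assoc, s.2]⟩, s.1, rfl⟩
  invFun s := ⟨s.2.1, by rw [← Category.assoc, s.2.2, s.1.2]⟩
  left_inv _ := rfl
  right_inv := by rintro ⟨⟨t, ht⟩, ⟨s, hs⟩⟩; change s ≫ p = t at hs; subst hs; rfl

end WeightLib
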