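import Groth.Agent.WeightLib.Weighting
import Mathlib.AlgebraicGeometry.Morphisms.FinitePresentation
import Mathlib.AlgebraicGeometry.IdealSheaf.Subscheme
import Mathlib.RingTheory.Spectrum.Prime.Chevalley
import Mathlib.Topology.Spectral.ConstructibleTopology

/-! Constructibility tools for weightings. -/

set_option autoImplicit false
set_option linter.style.haveILetI false
universe u

open AlgebraicGeometry CategoryTheory Limits IsLocalRing Topology TopologicalSpace

namespace WeightLib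

section Topology

variable {X : Type*} [TopologicalSpace X] [CompactSpace X] [QuasiSober X] [PrespectralSpace X]
  [QuasiSeparatedSpace X]

theorem isOpen_constructibleTopology_of_isConstructible {s : Set X} (hs : IsConstructible s) :
    IsOpen[constructibleTopology X] s ∧ IsOpen[constructibleTopology X] sᶜ := by
  induction hs using IsConstructible.empty_union_induction with
  | open_retrocompact U hU hU' =>
    exact ⟨hU'.isCompact.isOpen_constructibleTopology_of_isOpen hU,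
      IsCompact.isOpen_constructibleTopology_of_isClosed (by simpa using hU'.isCompact)
        hU.isClosed_compl⟩
  | union s _ t _ hs ht =>
    rw [Set.compl_union]
    letI := constructibleTopology X
    exact ⟨hs.1.union ht.1, hs.2.inter ht.2⟩
  | compl s _ hs => exact ⟨hs.2, by rw [compl_compl]; exact hs.1⟩

theorem exists_finset_cover {ι : Type*} (C : ι → Set X) (hC : ∀ i, IsConstructible (C i))
    (hcov : ∀ x, ∃ i, x ∈ C i) : ∃ t : Finset ι, ∀ x, ∃ i ∈ t, x ∈ C i := by
  obtain ⟨t, ht⟩ := (isCompact_univ (X := WithConstructibleTopology X)).elim_finite_subcover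
    (fun i ↦ WithTopology.ofTopology ⁻¹' C i)
    (fun i ↦ WithConstructibleTopology.isOpen_iff.mpr
      (isOpen_constructibleTopology_of_isConstructible (hC i)).1)
    (fun x _ ↦ Set.mem_iUnion.mpr (hcov _))
  refine ⟨t, fun x ↦ ?_⟩
  simpa using ht (Set.mem_univ (WithTopology.toTopology (constructibleTopology X) x))

/-- A function which is constant on a constructible neighbourhood of every point has finitely many
values and constructible level sets. -/
theorem finite_range_of_forall {T : Type*} (F : X → T)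
    (h : ∀ x, ∃ C, IsConstructible C ∧ x ∈ C ∧ ∀ y ∈ C, F y = F x) :
    (Set.range F).Finite ∧ ∀ t, IsConstructible (F ⁻¹' {t}) := by
  classical
  choose C hC hxC hF using h
  obtain ⟨s, hs⟩ := exists_finset_cover C hC fun x ↦ ⟨x, hxC x⟩
  refine ⟨(s.image F).finite_toSet.subset ?_, fun t ↦ ?_⟩
  · rintro _ ⟨y, rfl⟩
    obtain ⟨x, hx, hy⟩ := hs y
    exact Finset.mem_coe.mpr (Finset.mem_image.mpr ⟨x, hx, (hF x y hy).symm⟩)
  · have : F ⁻¹' {t} = ⋃ x ∈ s.filter (fun x ↦ F x = t), C x := by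
      ext y
      simp only [Set.mem_preimage, Set.mem_singleton_iff, Set.mem_iUnion, Finset.mem_filter,
        exists_prop]
      refine ⟨fun hy ↦ ?_, fun ⟨x, ⟨_, hx⟩, hy⟩ ↦ (hF x y hy).trans hx⟩
      obtain ⟨x, hx, hyx⟩ := hs y
      exact ⟨x, ⟨hx, (hF x y hyx).symm.trans hy⟩, hyx⟩
    rw [this]
    exact IsConstructible.biUnion (Finset.finite_toSet _) fun x _ ↦ hC x

end Topology

theorem exists_constructible_comap_disjoint {A C : Type u} [CommRing A] [CommRing C] (φ : A →+* C)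
    (p : PrimeSpectrum A) (h : p ∉ Set.range (PrimeSpectrum.comap φ)) :
    ∃ Z : Set (PrimeSpectrum A), IsConstructible Z ∧ p ∈ Z ∧
      Disjoint Z (Set.range (PrimeSpectrum.comap φ)) := by
  classical
  obtain ⟨a, ha, hamem⟩ : ∃ a, a ∉ p.asIdeal ∧ φ a ∈ p.asIdeal.map φ := by
    by_contra! hne
    obtain ⟨Q, hQ, hle, hdis⟩ := Ideal.exists_le_prime_disjoint (p.asIdeal.map φ)
      (p.asIdeal.primeCompl.map φ) (Set.disjoint_left.mpr fun c hc ⟨a, ha, hac⟩ ↦
        hne a ha (hac ▸ hc))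
    refine h ⟨⟨Q, hQ⟩, PrimeSpectrum.ext (le_antisymm (fun a ha ↦ ?_) fun a ha ↦ ?_)⟩
    · by_contra ha'
      exact Set.disjoint_left.mp hdis ha ⟨a, ha', rfl⟩
    · exact hle (Ideal.mem_map_of_mem φ ha)
  obtain ⟨T, hT, haT⟩ := Submodule.mem_span_finite_of_mem_span hamem
  obtain ⟨F, hF, rfl⟩ := Finset.subset_set_image_iff.mp hT
  refine ⟨(⋃ f ∈ F, (PrimeSpectrum.basicOpen f : Set (PrimeSpectrum A)))ᶜ ∩
    PrimeSpectrum.basicOpen a, ?_, ⟨?_, ha⟩, ?_⟩
  · exact (IsConstructible.biUnion F.finite_toSet fun f _ ↦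
      PrimeSpectrum.isConstructible_basicOpen).compl.inter PrimeSpectrum.isConstructible_basicOpen
  · simp only [Set.mem_compl_iff, Set.mem_iUnion, not_exists]
    exact fun f hf hfp ↦ hfp (hF hf)
  · rw [Set.disjoint_left]
    rintro q ⟨hqF, hqa⟩ ⟨Q, rfl⟩
    apply hqa
    change φ a ∈ Q.asIdeal
    refine Ideal.span_le.mpr ?_ haT
    rintro c hc
    obtain ⟨f, hf, rfl⟩ := Finset.mem_image.mp hc
    by_contra hc'
    exact hqF (Set.mem_iUnion₂.mpr ⟨f, hf, hc'⟩)

/-- A point outside the image of a compact scheme has a constructible neighbourhood outside it. -/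
theorem exists_constructible_disjoint_range {T V : Scheme.{u}} (h : T ⟶ V) [IsAffine V]
    [CompactSpace T] (v : V) (hv : v ∉ Set.range h) :
    ∃ Z : Set V, IsConstructible Z ∧ v ∈ Z ∧ Disjoint Z (Set.range h) := by
  let 𝒰 := T.affineCover.finiteSubcover
  choose φ hφ using fun i ↦ Spec.map_surjective ((𝒰.f i ≫ h) ≫ V.isoSpec.hom)
  have h' : ∀ i, V.isoSpec.hom v ∉ Set.range (Spec.map (φ i)) := by
    rintro i ⟨t, ht⟩
    rw [hφ] at ht
    exact hv ⟨𝒰.f i t, V.isoSpec.hom.homeomorph.injective ht⟩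
  choose Z hZ hvZ hdis using fun i ↦
    exists_constructible_comap_disjoint (φ i).hom (V.isoSpec.hom v) (h' i)
  refine ⟨⋂ i, V.isoSpec.hom ⁻¹' Z i,
    .iInter fun i ↦ Scheme.Hom.isConstructible_preimage _ (hZ i), Set.mem_iInter.mpr hvZ, ?_⟩
  rw [Set.disjoint_left]
  rintro _ hq ⟨t, rfl⟩
  obtain ⟨i, s, rfl⟩ := 𝒰.exists_eq t
  refine Set.disjoint_left.mp (hdis i) (Set.mem_iInter.mp hq i) ⟨s, ?_⟩
  change Spec.map (φ i) s = _
  rw [hφ]
  rfl

/-- The preimage of the previous lemma for a closed set. -/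
theorem exists_constructible_disjoint_image {P V : Scheme.{u}} (π : P ⟶ V) [IsAffine V]
    [CompactSpace P] {K : Set P} (hK : IsClosed K) (v : V) (hv : v ∉ π '' K) :
    ∃ Z : Set V, IsConstructible Z ∧ v ∈ Z ∧ Disjoint Z (π '' K) := by
  let I := Scheme.IdealSheafData.vanishingIdeal (⟨K, hK⟩ : Closeds P)
  have hr : Set.range I.subschemeι = K := by
    simp [I, Scheme.IdealSheafData.range_subschemeι]
  haveI : CompactSpace I.subscheme :=
    QuasiCompact.compactSpace_of_compactSpace I.subschemeι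
  have h : Set.range (I.subschemeι ≫ π) = π '' K := by
    rw [Scheme.Hom.comp_base, TopCat.coe_comp, Set.range_comp, hr]
  rw [← h] at hv ⊢
  exact exists_constructible_disjoint_range _ v hv

theorem gpts_Spec_iff {A B : CommRingCat.{u}} (φ : A ⟶ B) {Ω : CommRingCat.{u}} (ev : A ⟶ Ω) :
    Subsingleton (GPts (Spec.map φ) (Spec.map ev)) ↔
      ∀ ψ ψ' : B ⟶ Ω, φ ≫ ψ = ev → φ ≫ ψ' = ev → ψ = ψ' := by
  constructor
  · intro _ ψ ψ' h h'
    exact Spec.map_inj.mp (congrArg Subtype.val (Subsingleton.elim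
      (⟨Spec.map ψ, by rw [← Spec.map_comp, h]⟩ : GPts (Spec.map φ) (Spec.map ev))
      ⟨Spec.map ψ', by rw [← Spec.map_comp, h']⟩))
  · refine fun h ↦ ⟨fun p q ↦ Subtype.ext ?_⟩
    obtain ⟨ψ, hψ⟩ := Spec.map_surjective p.1
    obtain ⟨ψ', hψ'⟩ := Spec.map_surjective q.1
    rw [← hψ, ← hψ', h ψ ψ' (Spec.map_inj.mp (by rw [Spec.map_comp, hψ, p.2]))
      (Spec.map_inj.mp (by rw [Spec.map_comp, hψ', q.2]))]

open TensorProduct in
theorem exists_stratum_single_Spec {A B : CommRingCat.{u}} (φ : A ⟶ B) (hφ : φ.hom.FiniteType)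
    (v : Spec A) (hs : GSingle (Spec.map φ) v) :
    ∃ Z : Set (Spec A), IsConstructible Z ∧ v ∈ Z ∧ ∀ q ∈ Z, GSingle (Spec.map φ) q := by
  classical
  letI := φ.hom.toAlgebra
  obtain ⟨s, hs'⟩ := (RingHom.finiteType_algebraMap.mp hφ : Algebra.FiniteType A B).out
  let δ : B → B ⊗[A] B := fun b ↦ b ⊗ₜ 1 - 1 ⊗ₜ b
  let θ : ∀ b : B, A →+* Localization.Away (δ b) :=
    fun b ↦ algebraMap A (Localization.Away (δ b))
  have hθ : ∀ b, (v : PrimeSpectrum A) ∉ Set.range (PrimeSpectrum.comap (θ b)) := by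
    rintro b ⟨Q, hQ⟩
    let Ω := AlgebraicClosure Q.asIdeal.ResidueField
    let χ : B ⊗[A] B →+* Ω := ((algebraMap Q.asIdeal.ResidueField Ω).comp
      (algebraMap (Localization.Away (δ b)) Q.asIdeal.ResidueField)).comp (algebraMap _ _)
    let ev : A ⟶ .of Ω := CommRingCat.ofHom (χ.comp (algebraMap A _))
    have himg : img (Spec.map ev) = v := by
      rw [← hQ]
      apply PrimeSpectrum.ext
      ext a
      change χ (algebraMap A _ a) ∈ IsLocalRing.maximalIdeal Ω ↔ θ b a ∈ Q.asIdeal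
      rw [IsLocalRing.mem_maximalIdeal, mem_nonunits_iff]
      refine (not_congr isUnit_iff_ne_zero).trans (not_not.trans ?_)
      simp only [χ, RingHom.comp_apply, map_eq_zero, Ideal.algebraMap_residueField_eq_zero]
      rfl
    have hne : χ (δ b) ≠ 0 := by
      simp only [χ, RingHom.comp_apply, ne_eq, map_eq_zero, Ideal.algebraMap_residueField_eq_zero]
      exact fun h ↦ Q.2.ne_top (Ideal.eq_top_of_isUnit_mem _ h
        (IsLocalization.Away.algebraMap_isUnit _))
    haveI := hs Ω (Spec.map ev) himg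
    have := (gpts_Spec_iff φ ev).mp inferInstance
      (CommRingCat.ofHom (χ.comp Algebra.TensorProduct.includeLeftRingHom))
      (CommRingCat.ofHom (χ.comp Algebra.TensorProduct.includeRight.toRingHom)) rfl (by
        ext a
        change χ (1 ⊗ₜ[A] algebraMap A B a) = χ (algebraMap A _ a)
        rw [Algebra.TensorProduct.algebraMap_apply'])
    apply hne
    rw [map_sub, sub_eq_zero]
    exact congr($(this).hom b)
  choose Z hZ hvZ hdis using fun b ↦ exists_constructible_comap_disjoint (θ b) v (hθ b)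
  refine ⟨⋂ b : s, Z b.1, .iInter fun b ↦ hZ _, Set.mem_iInter.mpr fun b ↦ hvZ _,
    fun q hq Ω _ pv hpv ↦ ?_⟩
  obtain ⟨ev, rfl⟩ := Spec.map_surjective pv
  rw [gpts_Spec_iff]
  intro ψ ψ' hψ hψ'
  letI : Algebra A Ω := ev.hom.toAlgebra
  let a₁ : B →ₐ[A] Ω := { toRingHom := ψ.hom, commutes' := fun a ↦ congr($(hψ).hom a) }
  let a₂ : B →ₐ[A] Ω := { toRingHom := ψ'.hom, commutes' := fun a ↦ congr($(hψ').hom a) }
  suffices a₁ = a₂ by
    ext b
    exact congr($this b)
  refine AlgHom.ext_of_adjoin_eq_top hs' fun b hb ↦ ?_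
  by_contra hne
  let μ : B ⊗[A] B →ₐ[A] Ω := Algebra.TensorProduct.lift a₁ a₂ fun _ _ ↦ mul_comm _ _
  have hμ : IsUnit (μ (δ b)) := by
    refine isUnit_iff_ne_zero.mpr fun h ↦ hne ?_
    simpa [μ, δ, sub_eq_zero] using h
  let ν : Localization.Away (δ b) →+* Ω := IsLocalization.Away.lift (δ b) (g := μ.toRingHom) hμ
  refine Set.disjoint_left.mp (hdis b) (Set.mem_iInter.mp hq ⟨b, hb⟩)
    ⟨⟨RingHom.ker ν, RingHom.ker_isPrime _⟩, ?_⟩
  rw [← hpv]
  apply PrimeSpectrum.ext
  ext a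
  change ν (θ b a) = 0 ↔ ev.hom a ∈ IsLocalRing.maximalIdeal Ω
  have : ν (θ b a) = ev.hom a := by
    simp only [θ, IsScalarTower.algebraMap_apply A (B ⊗[A] B) (Localization.Away (δ b)), ν]
    rw [IsLocalization.Away.lift_eq]
    exact μ.commutes a
  rw [this, IsLocalRing.mem_maximalIdeal, mem_nonunits_iff, isUnit_iff_ne_zero, ne_eq, not_not]

theorem GSingle.of_iso {U U' V V' : Scheme.{u}} {π : U ⟶ V} {π' : U' ⟶ V'} (e : U' ≅ U)
    (e' : V' ≅ V) (h : e.hom ≫ π = π' ≫ e'.hom) {v' : V'} (hs : GSingle π (e'.hom v')) :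
    GSingle π' v' :=
  hs.baseChange (IsPullback.of_horiz_isIso ⟨h⟩) rfl

theorem exists_stratum_single {U V : Scheme.{u}} (π : U ⟶ V) [LocallyOfFiniteType π] [IsAffine U]
    [IsAffine V] (v : V) (hs : GSingle π v) :
    ∃ Z : Set V, IsConstructible Z ∧ v ∈ Z ∧ ∀ q ∈ Z, GSingle π q := by
  have hsq : U.isoSpec.hom ≫ Spec.map π.appTop = π ≫ V.isoSpec.hom := Scheme.isoSpec_hom_naturality π
  have hft : π.appTop.hom.FiniteType :=
    HasRingHomProperty.appTop (P := @LocallyOfFiniteType) π ‹_›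
  have hs' : GSingle (Spec.map π.appTop) (V.isoSpec.hom v) := by
    refine GSingle.of_iso (π := π) U.isoSpec.symm V.isoSpec.symm ?_ ?_
    · change U.isoSpec.inv ≫ π = Spec.map π.appTop ≫ V.isoSpec.inv
      rw [Iso.inv_comp_eq, ← Category.assoc, hsq, Category.assoc, Iso.hom_inv_id, Category.comp_id]
    · change GSingle π (V.isoSpec.inv (V.isoSpec.hom v))
      rwa [← Scheme.Hom.comp_apply, Iso.hom_inv_id]
  obtain ⟨Z, hZ, hvZ, h⟩ := exists_stratum_single_Spec π.appTop hft (V.isoSpec.hom v) hs'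
  exact ⟨V.isoSpec.hom ⁻¹' Z, Scheme.Hom.isConstructible_preimage _ hZ, hvZ,
    fun q hq ↦ GSingle.of_iso U.isoSpec V.isoSpec hsq (h _ hq)⟩

end WeightLib
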