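import Groth.Agent.WeightLib.Split
import Mathlib.AlgebraicGeometry.ZariskisMainTheorem
import Mathlib.AlgebraicGeometry.Morphisms.Preimmersion
import Mathlib.RingTheory.Etale.StandardEtale
import Mathlib.RingTheory.Polynomial.ScaleRoots
import Mathlib.FieldTheory.PrimitiveElement
import Mathlib.FieldTheory.SeparableClosure
import Mathlib.FieldTheory.PurelyInseparable.Basic

/-! Etale localisation of a locally quasi-finite morphism with purely inseparable residue fields. -/

set_option autoImplicit false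
set_option linter.style.haveILetI false
universe u

open AlgebraicGeometry CategoryTheory Limits IsLocalRing

namespace WeightLib

variable {X Y : Scheme.{u}}

open TensorProduct in
set_option backward.defeqAttrib.useBackward true in
set_option backward.isDefEq.respectTransparency false in
/-- After an etale localisation a point of a quasi-finite morphism is contained in an open finite
over the base which has no other point over the given point. -/
theorem exists_finite_open (f : X ⟶ Y) [LocallyOfFiniteType f] [LocallyQuasiFinite f] (x : X) :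
    ∃ (V : Scheme.{u}) (g : V ⟶ Y) (_ : Etale g) (v : V) (W : (pullback f g).Opens)
      (z : (pullback f g : Scheme.{u})), g v = f x ∧ IsFinite (W.ι ≫ pullback.snd f g) ∧ z ∈ W ∧
      pullback.snd f g z = v ∧ pullback.fst f g z = x ∧
      ∀ q, q ∈ W → pullback.snd f g q = v → q = z := by
  have hx := f.quasiFiniteAt x
  obtain ⟨_, ⟨U, hU, rfl⟩, hxU, -⟩ := Y.isBasis_affineOpens.exists_subset_of_mem_open
    (Set.mem_univ (f x)) isOpen_univ
  obtain ⟨_, ⟨V, hV, rfl⟩, hxV, hUV : V ≤ f ⁻¹ᵁ U⟩ :=
    X.isBasis_affineOpens.exists_subset_of_mem_open hxU (f ⁻¹ᵁ U).2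
  have : (f.appLE U V hUV).hom.FiniteType := f.finiteType_appLE hU hV hUV
  algebraize [(f.appLE U V hUV).hom]
  have : (hV.primeIdealOf ⟨x, hxV⟩).asIdeal.LiesOver (hU.primeIdealOf ⟨f x, hxU⟩).asIdeal := by
    suffices hU.primeIdealOf ⟨f x, hxU⟩ = Spec.map (f.appLE U V hUV) (hV.primeIdealOf ⟨x, hxV⟩) from
      ⟨congr(($this).1)⟩
    apply hU.isoSpec.inv.homeomorph.injective
    apply Subtype.ext
    simp only [IsAffineOpen.primeIdealOf, Scheme.Hom.homeomorph_apply,
      ← Scheme.Hom.comp_apply, ← Scheme.Opens.ι_apply, IsAffineOpen.isoSpec_hom]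
    simp
  have : Algebra.QuasiFiniteAt Γ(Y, U) (hV.primeIdealOf ⟨x, hxV⟩).asIdeal :=
    hx.quasiFiniteAt hV hU hUV hxV
  obtain ⟨R, _, _, _, P, _, _, e, _, P', _, hP'P, hP', heP', -, _, huniq⟩ :=
    Algebra.exists_etale_isIdempotentElem_forall_liesOver_eq
    (hU.primeIdealOf ⟨f x, hxU⟩).asIdeal (hV.primeIdealOf ⟨x, hxV⟩).asIdeal
  let φ : Γ(Y, U) ⟶ .of R := CommRingCat.ofHom <| algebraMap Γ(Y, U) R
  have hφ : φ.hom.Etale := RingHom.etale_algebraMap.mpr ‹_›
  have : Etale (Spec.map φ) := HasRingHomProperty.Spec_iff.mpr hφ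
  let e₁ : Spec (.of (R ⊗ Γ(X, V))) ≅ pullback (Spec.map (f.appLE U V hUV)) (Spec.map φ) :=
    (pullbackSpecIso _ _ _).symm ≪≫ pullbackSymmetry _ _
  have he₁ : e₁.hom ≫ pullback.fst _ _ =
      Spec.map (CommRingCat.ofHom Algebra.TensorProduct.includeRight.toRingHom) := by
    dsimp [e₁, RingHom.algebraMap_toAlgebra]
    rw [Category.assoc, pullbackSymmetry_hom_comp_fst]
    exact pullbackSpecIso_inv_snd ..
  have he₂ : e₁.hom ≫ pullback.snd _ _ =
      Spec.map (CommRingCat.ofHom (algebraMap R (R ⊗[Γ(Y, U)] Γ(X, V)))) := by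
    dsimp [e₁, RingHom.algebraMap_toAlgebra]
    rw [Category.assoc, pullbackSymmetry_hom_comp_snd]
    exact pullbackSpecIso_inv_fst ..
  let g : Spec (.of (R ⊗[Γ(Y, U)] Γ(X, V))) ⟶ pullback f (Spec.map φ ≫ hU.fromSpec) :=
    e₁.hom ≫ pullback.map _ _ _ _ hV.fromSpec (𝟙 _) hU.fromSpec
      (IsAffineOpen.SpecMap_appLE_fromSpec ..) (by simp)
  have hg₂ : g ≫ pullback.snd _ _ =
      Spec.map (CommRingCat.ofHom (algebraMap R (R ⊗[Γ(Y, U)] Γ(X, V)))) := by
    simp [g, he₂]
  let W₁ := g ''ᵁ PrimeSpectrum.basicOpen e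
  have hW : IsFinite (W₁.ι ≫ pullback.snd f _) := by
    have : (algebraMap R (Localization.Away e)).Finite := RingHom.finite_algebraMap.mpr ‹_›
    let ι : Spec (.of (Localization.Away e)) ⟶ pullback f (Spec.map φ ≫ hU.fromSpec) :=
      Spec.map (CommRingCat.ofHom <| algebraMap _ _) ≫ g
    have : ι.opensRange = W₁ := by
      simp only [Scheme.Hom.opensRange_comp, ι, W₁]
      congr 1
      exact TopologicalSpace.Opens.ext <| PrimeSpectrum.localization_away_comap_range _ _
    rw [← this, ← MorphismProperty.cancel_left_of_respectsIso @IsFinite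
      (Scheme.Hom.isoOpensRange _).hom]
    have H : (pullbackSpecIso _ R _).inv ≫ pullback.fst _ (Spec.map (f.appLE U V hUV)) = _ :=
      pullbackSpecIso_inv_fst ..
    simpa [Scheme.Hom.isoOpensRange, ι, g, e₁, RingHom.algebraMap_toAlgebra, φ, H,
      ← Spec.map_comp, IsFinite.SpecMap_iff]
  have hz₂ : ∀ Q : PrimeSpectrum (R ⊗[Γ(Y, U)] Γ(X, V)),
      pullback.snd f (Spec.map φ ≫ hU.fromSpec) (g Q) =
        ⟨Q.asIdeal.under R, inferInstance⟩ := by
    intro Q
    rw [← Scheme.Hom.comp_apply, hg₂]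
    rfl
  refine ⟨Spec (.of R), Spec.map φ ≫ hU.fromSpec, inferInstance, ⟨P, ‹_›⟩, W₁, g ⟨P', ‹_›⟩,
    ?_, hW, ⟨⟨P', ‹_›⟩, heP', rfl⟩, ?_, ?_, ?_⟩
  · dsimp [Spec.map_apply]
    convert! hU.fromSpec_primeIdealOf ⟨f x, hxU⟩
    exact PrimeSpectrum.ext (Ideal.over_def _ _).symm
  · rw [hz₂]
    exact PrimeSpectrum.ext hP'P.over.symm
  · trans hV.fromSpec ⟨P'.comap Algebra.TensorProduct.includeRight.toRingHom, inferInstance⟩
    · simp [← Scheme.Hom.comp_apply, -Scheme.Hom.comp_base, g, reassoc_of% he₁]; rfl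
    convert! hV.fromSpec_primeIdealOf ⟨x, hxV⟩
  · rintro q ⟨Q, hQ, rfl⟩ hq
    replace hq := (hz₂ Q).symm.trans hq
    congr 1
    refine PrimeSpectrum.ext (huniq Q.asIdeal Q.2 ⟨?_⟩ hQ)
    exact congr(($hq.symm).1)

/-- An etale neighbourhood whose residue field receives a given finite separable extension. -/
theorem exists_etale_nbhd_field (y : Y) (K : Type u) [Field K] [Algebra (Y.residueField y) K]
    [FiniteDimensional (Y.residueField y) K] [Algebra.IsSeparable (Y.residueField y) K] :
    ∃ (V : Scheme.{u}) (g : V ⟶ Y) (_ : Etale g) (v : V) (c : Y.residueField y ⟶ V.residueField v)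
      (ι : K →+* V.residueField v), g v = y ∧
      Spec.map c ≫ Y.fromSpecResidueField y = V.fromSpecResidueField v ≫ g ∧
      ι.comp (algebraMap (Y.residueField y) K) = c.hom := by
  classical
  obtain ⟨_, ⟨U, hU, rfl⟩, hyU, -⟩ := Y.isBasis_affineOpens.exists_subset_of_mem_open
    (Set.mem_univ y) isOpen_univ
  let l : Spec (Y.residueField y) ⟶ Spec Γ(Y, U) :=
    IsOpenImmersion.lift hU.fromSpec (Y.fromSpecResidueField y) (by
      rw [Scheme.range_fromSpecResidueField, IsAffineOpen.range_fromSpec]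
      simpa using hyU)
  have hl : l ≫ hU.fromSpec = Y.fromSpecResidueField y := IsOpenImmersion.lift_fac ..
  obtain ⟨u, hu⟩ := Spec.map_surjective l
  haveI : IsPreimmersion (l ≫ hU.fromSpec) := by rw [hl]; infer_instance
  haveI : IsPreimmersion (Spec.map u) := hu ▸ IsPreimmersion.of_comp l hU.fromSpec
  have hfrac : ∀ c : Y.residueField y, ∃ a b : Γ(Y, U), u b ≠ 0 ∧ u b * c = u a := by
    intro c
    obtain ⟨a, b, c', hc', hb, e⟩ := RingHom.surjectiveOnStalks_iff_forall_ideal.mp
      ((IsPreimmersion.SpecMap_iff u).mp ‹_›).2 ⊥ bot_ne_top c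
    rw [Ideal.mem_bot] at hc' hb
    refine ⟨a, b, hb, mul_left_cancel₀ hc' ?_⟩
    rw [← mul_assoc]
    exact e
  obtain ⟨α, hα⟩ := Field.exists_primitive_element (Y.residueField y) K
  have hint : IsIntegral (Y.residueField y) α := .of_finite _ _
  choose a b hb hab using fun i ↦ hfrac ((minpoly (Y.residueField y) α).coeff i)
  let n := (minpoly (Y.residueField y) α).natDegree
  let d := ∏ i ∈ Finset.range n, b i
  have hd : u d ≠ 0 := by
    simp only [d, map_prod]
    exact Finset.prod_ne_zero_iff.mpr fun i _ ↦ hb i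
  let p := (minpoly (Y.residueField y) α).scaleRoots (u d)
  let β : K := algebraMap _ K (u d) * α
  have hpmon : p.Monic := (Polynomial.monic_scaleRoots_iff _).mpr (minpoly.monic hint)
  have hproot : Polynomial.aeval β p = 0 :=
    Polynomial.scaleRoots_aeval_eq_zero (minpoly.aeval _ _)
  have hβtop : IntermediateField.adjoin (Y.residueField y) {β} = ⊤ := by
    rw [eq_top_iff, ← hα, IntermediateField.adjoin_simple_le_iff]
    have : α = (algebraMap _ K (u d))⁻¹ * β := by
      simp only [β]
      rw [inv_mul_cancel_left₀]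
      exact (map_ne_zero _).mpr hd
    rw [this]
    exact mul_mem (inv_mem (IntermediateField.algebraMap_mem _ _))
      (IntermediateField.mem_adjoin_simple_self _ _)
  have hpmin : p = minpoly (Y.residueField y) β := by
    refine Polynomial.eq_of_monic_of_dvd_of_natDegree_le (minpoly.monic (.of_finite _ _)) hpmon
      (minpoly.dvd _ _ hproot) ?_
    rw [Polynomial.natDegree_scaleRoots, ← IntermediateField.adjoin.finrank (.of_finite _ β),
      ← IntermediateField.adjoin.finrank hint, hα, hβtop]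
  have hplift : p ∈ Polynomial.lifts u.hom := by
    rw [Polynomial.lifts_iff_coeff_lifts]
    intro i
    rw [Polynomial.coeff_scaleRoots]
    rcases lt_trichotomy i n with hi | hi | hi
    · obtain ⟨r, hr⟩ := Finset.dvd_prod_of_mem b (Finset.mem_range.mpr hi)
      obtain ⟨k, hk⟩ := Nat.exists_eq_add_of_lt hi
      refine ⟨a i * r * d ^ k, ?_⟩
      rw [show (minpoly (Y.residueField y) α).natDegree - i = k + 1 by
        change n - i = k + 1
        omega]
      have hd' : u d = u (b i) * u r := by rw [← map_mul]; exact congr_arg _ hr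
      simp only [map_mul, map_pow, pow_succ, hd', ← hab i]
      ring
    · refine ⟨1, ?_⟩
      rw [map_one, hi, show n = (minpoly (Y.residueField y) α).natDegree from rfl,
        Polynomial.coeff_natDegree, (minpoly.monic hint).leadingCoeff, Nat.sub_self, pow_zero,
        one_mul]
    · exact ⟨0, by rw [map_zero, Polynomial.coeff_eq_zero_of_natDegree_lt hi, zero_mul]⟩
  obtain ⟨m, hm, -, hmmon⟩ := Polynomial.lifts_and_natDegree_eq_and_monic hplift hpmon
  letI : Algebra Γ(Y, U) K := ((algebraMap (Y.residueField y) K).comp u.hom).toAlgebra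
  let S : StandardEtalePair Γ(Y, U) :=
    ⟨m, hmmon, Polynomial.derivative m, 1, 0, 1, by simp⟩
  have hev : ∀ q : Polynomial Γ(Y, U),
      Polynomial.aeval β q = Polynomial.aeval β (q.map u.hom) := fun q ↦ by
    rw [Polynomial.aeval_def, Polynomial.aeval_def, Polynomial.eval₂_map]
    rfl
  have hβS : S.HasMap β := by
    refine ⟨by rw [hev]; change Polynomial.aeval β (m.map u.hom) = 0; rw [hm, hproot], ?_⟩
    rw [isUnit_iff_ne_zero, hev]
    change Polynomial.aeval β ((Polynomial.derivative m).map u.hom) ≠ 0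
    rw [← Polynomial.derivative_map, hm, hpmin]
    exact (Algebra.IsSeparable.isSeparable (Y.residueField y) β).aeval_derivative_ne_zero
      (minpoly.aeval _ _)
  let φ : Γ(Y, U) ⟶ .of S.Ring := CommRingCat.ofHom (algebraMap _ _)
  have hφ : φ.hom.Etale := RingHom.etale_algebraMap.mpr inferInstance
  haveI : Etale (Spec.map φ) := HasRingHomProperty.Spec_iff.mpr hφ
  let ψ : CommRingCat.of S.Ring ⟶ .of K := CommRingCat.ofHom (S.lift β hβS).toRingHom
  let g := Spec.map φ ≫ hU.fromSpec
  let t : Spec (.of K) ⟶ Spec (.of S.Ring) := Spec.map ψ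
  let v : Spec (.of S.Ring) := img t
  obtain ⟨e, he⟩ := exists_eq_specMap_fromSpecResidueField t (x := v) rfl
  have htg : t ≫ g =
      Spec.map (CommRingCat.ofHom (algebraMap (Y.residueField y) K)) ≫
        Y.fromSpecResidueField y := by
    rw [← hl, ← hu, ← Spec.map_comp_assoc]
    simp only [← Spec.map_comp_assoc]
    congr 2
    ext r
    exact (S.lift β hβS).commutes r
  have hgv : g v = y := by
    change img (t ≫ g) = y
    rw [htg, img_specMap_fromSpecResidueField]
  obtain ⟨c, hc⟩ : ∃ c : Y.residueField y ⟶ (Spec (.of S.Ring)).residueField v,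
      Spec.map c ≫ Y.fromSpecResidueField y = Scheme.fromSpecResidueField _ v ≫ g := by
    refine ⟨(Y.residueFieldCongr hgv).inv ≫ g.residueFieldMap v, ?_⟩
    rw [Spec.map_comp, Category.assoc]
    rw [← Scheme.Hom.SpecMap_residueFieldMap_fromSpecResidueField]
    congr 1
    exact Y.residueFieldCongr_fromSpecResidueField hgv.symm
  have hce : c ≫ e = CommRingCat.ofHom (algebraMap (Y.residueField y) K) := by
    apply Spec.map_inj.mp
    rw [← cancel_mono (Y.fromSpecResidueField y), Spec.map_comp, Category.assoc, hc, reassoc_of% he,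
      htg]
  obtain ⟨ev, hev'⟩ := Spec.map_surjective (Scheme.fromSpecResidueField (Spec (.of S.Ring)) v)
  have hβmem : β ∈ e.hom.fieldRange := by
    refine ⟨ev S.X, ?_⟩
    have : ev ≫ e = ψ := Spec.map_inj.mp (by rw [Spec.map_comp, hev']; exact he)
    change (ev ≫ e).hom S.X = β
    rw [this]
    exact S.lift_X β hβS
  have hsurj : Function.Surjective e := by
    intro k
    have hsub : IntermediateField.adjoin (Y.residueField y) {β} ≤
        e.hom.fieldRange.toIntermediateField (fun r ↦ ⟨c r, congr($(hce).hom r)⟩) :=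
      IntermediateField.adjoin_simple_le_iff.mpr hβmem
    exact hsub (hβtop ▸ IntermediateField.mem_top)
  let eq := RingEquiv.ofBijective e.hom ⟨e.hom.injective, hsurj⟩
  refine ⟨_, g, inferInstance, v, c, eq.symm.toRingHom, hgv, hc, ?_⟩
  ext r
  apply eq.injective
  change eq (eq.symm _) = e.hom (c.hom r)
  rw [RingEquiv.apply_symm_apply]
  exact congr($(hce.symm).hom r)

/-- `π` has at most one geometric point at `z` over each geometric point of the base. -/
def SingleAt {P V : Scheme.{u}} (π : P ⟶ V) (z : P) : Prop :=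
  ∀ (Ω : Type u) [Field Ω] (p q : Spec (.of Ω) ⟶ P), img p = z → img q = z → p ≫ π = q ≫ π → p = q

theorem exists_residue_hom (f : X ⟶ Y) [LocallyQuasiFinite f] (x : X) {y : Y} (h : f x = y) :
    ∃ c : Y.residueField y ⟶ X.residueField x,
      Spec.map c ≫ Y.fromSpecResidueField y = X.fromSpecResidueField x ≫ f ∧ c.hom.Finite := by
  subst h
  exact ⟨_, Scheme.Hom.SpecMap_residueFieldMap_fromSpecResidueField .., finite_residueFieldMap f x⟩

/-- Base change to an etale neighbourhood making the residue extensions purely inseparable. -/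
theorem exists_singleAt (f : X ⟶ Y) [LocallyQuasiFinite f] [LocallyOfFiniteType f] (y : Y)
    (J : Set X) (hJ : J.Finite) :
    ∃ (V : Scheme.{u}) (g : V ⟶ Y) (_ : Etale g) (v : V), g v = y ∧
      ∀ z, pullback.snd f g z = v → pullback.fst f g z ∈ J → SingleAt (pullback.snd f g) z := by
  classical
  let J' := {x : X // x ∈ J ∧ f x = y}
  haveI : Finite J' := (hJ.subset fun _ h ↦ h.1).to_subtype
  choose c hc hcfin using fun x : J' ↦ exists_residue_hom f x.1 x.2.2
  letI : ∀ x : J', Algebra (Y.residueField y) (X.residueField x.1) := fun x ↦ (c x).hom.toAlgebra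
  haveI : ∀ x : J', FiniteDimensional (Y.residueField y) (X.residueField x.1) :=
    fun x ↦ RingHom.finite_algebraMap.mp (hcfin x)
  choose a ha using fun x : J' ↦ Field.exists_primitive_element (Y.residueField y)
    (separableClosure (Y.residueField y) (X.residueField x.1))
  let Ω := AlgebraicClosure (Y.residueField y)
  let pol : J' → Polynomial (Y.residueField y) := fun x ↦
    minpoly (Y.residueField y) (a x : X.residueField x.1)
  have hsep : ∀ x, (pol x).Separable := fun x ↦
    (mem_separableClosure_iff).mp (a x).2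
  let R : Set Ω := ⋃ x, (pol x).rootSet Ω
  let K := IntermediateField.adjoin (Y.residueField y) R
  haveI : Algebra.IsSeparable (Y.residueField y) K := by
    rw [IntermediateField.isSeparable_adjoin_iff_isSeparable]
    intro r hr
    obtain ⟨x, hx⟩ := Set.mem_iUnion.mp hr
    exact (hsep x).of_dvd (minpoly.dvd _ _ (Polynomial.mem_rootSet.mp hx).2)
  haveI : Finite R := Set.Finite.to_subtype (Set.finite_iUnion fun x ↦ (pol x).rootSet_finite Ω)
  haveI : FiniteDimensional (Y.residueField y) K :=
    IntermediateField.finiteDimensional_adjoin fun r _ ↦ Algebra.IsIntegral.isIntegral r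
  obtain ⟨V, g, hg, v, cv, ι, hgv, hcv, hι⟩ := exists_etale_nbhd_field y K
  refine ⟨V, g, hg, v, hgv, fun z hzv hzJ ↦ ?_⟩
  intro Ω' _ p q hp hq hpq
  have hfx : f (pullback.fst f g z) = y := by
    rw [← Scheme.Hom.comp_apply, pullback.condition, Scheme.Hom.comp_apply, hzv, hgv]
  let x : J' := ⟨pullback.fst f g z, hzJ, hfx⟩
  obtain ⟨e, he⟩ := exists_eq_specMap_fromSpecResidueField p hp
  obtain ⟨e', he'⟩ := exists_eq_specMap_fromSpecResidueField q hq
  let rf : X.residueField x.1 ⟶ (pullback f g).residueField z := (pullback.fst f g).residueFieldMap z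
  have hrf : Spec.map rf ≫ X.fromSpecResidueField x.1 =
      (pullback f g).fromSpecResidueField z ≫ pullback.fst f g :=
    Scheme.Hom.SpecMap_residueFieldMap_fromSpecResidueField ..
  let rs : V.residueField v ⟶ (pullback f g).residueField z :=
    (V.residueFieldCongr hzv).inv ≫ (pullback.snd f g).residueFieldMap z
  have hrs : Spec.map rs ≫ V.fromSpecResidueField v =
      (pullback f g).fromSpecResidueField z ≫ pullback.snd f g := by
    rw [← Scheme.Hom.SpecMap_residueFieldMap_fromSpecResidueField]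
    simp only [rs, Spec.map_comp, Category.assoc]
    congr 1
    exact V.residueFieldCongr_fromSpecResidueField hzv.symm
  have hsq : c x ≫ rf = cv ≫ rs := by
    apply Spec.map_inj.mp
    rw [← cancel_mono (Y.fromSpecResidueField y), Spec.map_comp, Spec.map_comp, Category.assoc,
      Category.assoc, hc, hcv, reassoc_of% hrf, reassoc_of% hrs, pullback.condition]
  have hee : rs ≫ e = rs ≫ e' := by
    apply Spec.map_inj.mp
    rw [← cancel_mono (V.fromSpecResidueField v), Spec.map_comp rs e, Spec.map_comp rs e', Category.assoc,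
      Category.assoc, hrs, reassoc_of% he, reassoc_of% he', hpq]
  have hfst : rf ≫ e = rf ≫ e' := by
    let L := separableClosure (Y.residueField y) (X.residueField x.1)
    letI : Algebra (Y.residueField y) ((pullback f g).residueField z) :=
      (c x ≫ rf).hom.toAlgebra
    let ιz : K →ₐ[Y.residueField y] (pullback f g).residueField z :=
      { toRingHom := rs.hom.comp ι
        commutes' := fun r ↦ by
          change rs.hom (ι (algebraMap (Y.residueField y) K r)) = (c x ≫ rf).hom r
          rw [hsq]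
          exact congrArg rs.hom congr($hι r) }
    obtain ⟨k, hk⟩ : ∃ k : K, ιz k = rf (a x : X.residueField x.1) := by
      have hsplit : ((pol x).map (algebraMap (Y.residueField y) K)).Splits :=
        (IntermediateField.splits_iff_mem (F := K)
          (IsAlgClosed.splits ((pol x).map (algebraMap (Y.residueField y) Ω)))).mpr
          fun r hr ↦ IntermediateField.subset_adjoin _ _ (Set.mem_iUnion.mpr ⟨x, hr⟩)
      refine Polynomial.Splits.mem_range_of_isRoot (i := ιz.toRingHom) hsplit ?_ ?_
      · exact Polynomial.map_ne_zero (hsep x).ne_zero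
      · rw [Polynomial.map_map, Polynomial.IsRoot, Polynomial.eval_map]
        have h2 : ιz.toRingHom.comp (algebraMap (Y.residueField y) K) =
            rf.hom.comp (algebraMap (Y.residueField y) (X.residueField x.1)) :=
          ιz.comp_algebraMap
        rw [h2, ← Polynomial.hom_eval₂, ← Polynomial.aeval_def, minpoly.aeval, map_zero]
    have hagree : ∀ l : L, e (rf (l : X.residueField x.1)) = e' (rf (l : X.residueField x.1)) := by
      letI := (c x ≫ rf ≫ e).hom.toAlgebra
      have hc' : c x ≫ rf ≫ e = c x ≫ rf ≫ e' := by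
        rw [reassoc_of% hsq, reassoc_of% hsq, hee]
      let φ₁ : L →ₐ[Y.residueField y] Ω' :=
        { toRingHom := (rf ≫ e).hom.comp (algebraMap L (X.residueField x.1))
          commutes' := fun r ↦ rfl }
      let φ₂ : L →ₐ[Y.residueField y] Ω' :=
        { toRingHom := (rf ≫ e').hom.comp (algebraMap L (X.residueField x.1))
          commutes' := fun r ↦ congr($(hc'.symm).hom r) }
      have : φ₁ = φ₂ := by
        have htop := ha x
        refine AlgHom.ext_of_adjoin_eq_top (s := {a x}) ?_ ?_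
        · rw [← IntermediateField.adjoin_simple_toSubalgebra_of_isAlgebraic (Algebra.IsAlgebraic.isAlgebraic (a x)), htop,
            IntermediateField.top_toSubalgebra]
        · rintro _ rfl
          change e (rf (a x : X.residueField x.1)) = e' (rf (a x : X.residueField x.1))
          rw [← hk]
          exact congr($(hee).hom (ι k))
      exact fun l ↦ congr($this l)
    ext r
    letI : Algebra L Ω' := ((rf ≫ e).hom.comp (algebraMap L (X.residueField x.1))).toAlgebra
    exact congr($(IsPurelyInseparable.injective_comp_algebraMap L (X.residueField x.1) Ω'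
      (a₁ := (rf ≫ e).hom) (a₂ := (rf ≫ e').hom) (RingHom.ext hagree)) r)
  apply pullback.hom_ext
  · rw [← he, ← he', Category.assoc, Category.assoc, ← hrf, ← Spec.map_comp_assoc, hfst,
      Spec.map_comp_assoc]
  · exact hpq

theorem SingleAt.eq_of_pullback {P V V' : Scheme.{u}} {π : P ⟶ V} {g : V' ⟶ V} {z : P}
    (hs : SingleAt π z) {Ω : Type u} [Field Ω] {p q : Spec (.of Ω) ⟶ pullback π g}
    (hp : pullback.fst π g (img p) = z) (hq : pullback.fst π g (img q) = z)
    (h : p ≫ pullback.snd π g = q ≫ pullback.snd π g) : p = q :=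
  pullback.hom_ext (hs Ω _ _ (by rw [img_comp, hp]) (by rw [img_comp, hq])
    (by rw [Category.assoc, Category.assoc, pullback.condition, reassoc_of% h])) h

/-- Finitely many pointed etale neighbourhoods are dominated by a single one. -/
theorem exists_common_etale {V : Scheme.{u}} (v : V) {ι : Type*} (s : Finset ι)
    (W : ι → Scheme.{u}) (g : ∀ i, W i ⟶ V) [∀ i, Etale (g i)] (w : ∀ i, W i)
    (hw : ∀ i, g i (w i) = v) :
    ∃ (V' : Scheme.{u}) (g' : V' ⟶ V) (_ : Etale g') (v' : V'), g' v' = v ∧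
      ∀ i ∈ s, ∃ k : V' ⟶ W i, k ≫ g i = g' ∧ k v' = w i := by
  classical
  induction s using Finset.induction with
  | empty => exact ⟨V, 𝟙 V, inferInstance, v, rfl, by simp⟩
  | insert j s _ ih =>
    obtain ⟨V', g', _, v', hv', h⟩ := ih
    obtain ⟨p, hp₁, hp₂⟩ := Scheme.Pullback.exists_preimage_pullback (f := g') (g := g j) v' (w j)
      (hv'.trans (hw j).symm)
    refine ⟨pullback g' (g j), pullback.fst _ _ ≫ g', inferInstance, p, ?_, fun i hi ↦ ?_⟩
    · rw [Scheme.Hom.comp_apply, hp₁, hv']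
    rcases Finset.mem_insert.mp hi with rfl | hi
    · exact ⟨pullback.snd _ _, pullback.condition.symm, hp₂⟩
    · obtain ⟨k, hk, hkv⟩ := h i hi
      exact ⟨pullback.fst _ _ ≫ k, by rw [Category.assoc, hk], by
        rw [Scheme.Hom.comp_apply, hp₁, hkv]⟩

theorem finite_points_over (f : X ⟶ Y) [LocallyQuasiFinite f] {V : Scheme.{u}} (g : V ⟶ Y) (v : V)
    (J : Set X) (hJ : J.Finite) :
    {z | pullback.snd f g z = v ∧ pullback.fst f g z ∈ J}.Finite := by
  let pv := gpt v
  let T := {q : GPts f (pv ≫ g) // img q.1 ∈ J}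
  haveI : Finite {x : X // x ∈ J ∧ f x = g v} := (hJ.subset fun _ h ↦ h.1).to_subtype
  haveI : Finite T := by
    haveI : ∀ x : {x : X // x ∈ J ∧ f x = g v}, Finite {q : GPts f (pv ≫ g) // img q.1 = x.1} :=
      fun x ↦ (card_gptsAt f x.1 (pv ≫ g) (by rw [img_comp, img_gpt, x.2.2])).1
    refine Finite.of_surjective
      (fun s : Σ x : {x : X // x ∈ J ∧ f x = g v}, {q : GPts f (pv ≫ g) // img q.1 = x.1} ↦
        (⟨s.2.1, by rw [s.2.2]; exact s.1.2.1⟩ : T)) fun q ↦ ?_
    exact ⟨⟨⟨img q.1.1, q.2, (img_mem_fibre f q.1).trans (by rw [img_comp, img_gpt])⟩, q.1, rfl⟩, rfl⟩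
  haveI : LocallyQuasiFinite (pullback.snd f g) := inferInstance
  have hc : IsPullback (pullback.fst f g) (pullback.snd f g) f g := .of_hasPullback _ _
  refine (Set.finite_range (fun q : T ↦ img ((gptsPullbackEquiv hc pv).symm q.1).1)).subset ?_
  rintro z ⟨hz, hzJ⟩
  obtain ⟨p, hp⟩ := exists_gpt (pullback.snd f g) z pv (by rw [img_gpt, hz])
  refine ⟨⟨gptsPullbackEquiv hc pv p, ?_⟩, ?_⟩
  · change img (p.1 ≫ pullback.fst f g) ∈ J
    rwa [img_comp, hp]
  · simp only [Equiv.symm_apply_apply, hp]

/-- The local structure of a locally quasi-finite morphism. -/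
theorem exists_split (f : X ⟶ Y) [LocallyQuasiFinite f] [LocallyOfFiniteType f]
    (y : Y) (J : Set X) (hJ : J.Finite) :
    ∃ (V : Scheme.{u}) (g : V ⟶ Y) (_ : Etale g) (v : V), g v = y ∧
      HasSplit (pullback.fst f g) (pullback.snd f g) v J := by
  classical
  obtain ⟨V₀, g₀, _, v₀, hv₀, hS⟩ := exists_singleAt f y J hJ
  let π₀ := pullback.snd f g₀
  let Z := {z // π₀ z = v₀ ∧ pullback.fst f g₀ z ∈ J}
  haveI : Finite Z := (finite_points_over f g₀ v₀ J hJ).to_subtype
  letI := Fintype.ofFinite Z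
  choose Vz gz hgz vz W z' hvz hW hz'W hz'v hz'x huniq using
    fun z : Z ↦ exists_finite_open π₀ z.1
  haveI := hgz
  obtain ⟨V', g', _, v', hv', hk⟩ := exists_common_etale v₀ (Finset.univ : Finset Z) Vz gz vz
    fun z ↦ (hvz z).trans z.2.1
  choose k hk hkv using fun z ↦ hk z (Finset.mem_univ _)
  let P' := pullback f (g' ≫ g₀)
  let a' : P' ⟶ X := pullback.fst f _
  let π' : P' ⟶ V' := pullback.snd f _
  obtain ⟨m, hm, hma⟩ := exists_isPullback_map (IsPullback.of_hasPullback f g₀)
    (IsPullback.of_hasPullback f (g' ≫ g₀)) g' rfl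
  have : ∀ z : Z, ∃ mz : P' ⟶ pullback π₀ (gz z),
      IsPullback mz π' (pullback.snd π₀ (gz z)) (k z) ∧ mz ≫ pullback.fst π₀ (gz z) = m :=
    fun z ↦ exists_isPullback_map (IsPullback.of_hasPullback π₀ (gz z)) hm (k z) (hk z)
  choose mz hmz hmza using this
  have hzπ : ∀ (z : Z) p, π' p = v' → pullback.snd π₀ (gz z) (mz z p) = vz z := fun z p hp ↦ by
    rw [← Scheme.Hom.comp_apply, (hmz z).w, Scheme.Hom.comp_apply, hp, hkv]
  have hmzx : ∀ (z : Z) p, pullback.fst π₀ (gz z) (mz z p) = m p := fun z p ↦ by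
    rw [← Scheme.Hom.comp_apply, hmza]
  have hsingle : ∀ z : Z, GSingle ((W z).ι ≫ pullback.snd π₀ (gz z)) (vz z) := by
    intro z Ω _ pv hpv
    have himg : ∀ p : GPts ((W z).ι ≫ pullback.snd π₀ (gz z)) pv,
        pullback.fst π₀ (gz z) (img (p.1 ≫ (W z).ι)) = z.1 := by
      intro p
      rw [huniq z (img (p.1 ≫ (W z).ι)) (img p.1).2 (by
        rw [← img_comp, Category.assoc, p.2, hpv]), hz'x]
    refine ⟨fun p q ↦ Subtype.ext ((cancel_mono (W z).ι).mp ?_)⟩
    exact (hS z.1 z.2.1 z.2.2).eq_of_pullback (himg p) (himg q)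
      (by rw [Category.assoc, Category.assoc, p.2, q.2])
  let E := (Fintype.equivFin Z).symm
  refine ⟨V', g' ≫ g₀, inferInstance, v', by rw [Scheme.Hom.comp_apply, hv', hv₀],
    Fintype.card Z, fun i ↦ mz (E i) ⁻¹ᵁ W (E i), fun i ↦ ?_, fun i ↦ ?_, ?_, ?_⟩
  · haveI := hW (E i)
    exact isFinite_restrict (hmz _) _
  · exact (hsingle _).baseChange (isPullback_restrict (hmz _) _) (hkv _)
  · intro p i j hp hi hj
    have h1 : ∀ i, p ∈ mz (E i) ⁻¹ᵁ W (E i) → m p = (E i).1 := fun i hi ↦ by
      rw [← hmzx (E i), huniq (E i) _ hi (hzπ _ p hp), hz'x]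
    exact E.injective (Subtype.ext ((h1 i hi).symm.trans (h1 j hj)))
  · intro p hp hpJ
    have h1 : π₀ (m p) = v₀ := by
      rw [← Scheme.Hom.comp_apply, hm.w, Scheme.Hom.comp_apply, hp, hv']
    have h2 : pullback.fst f g₀ (m p) ∈ J := by
      rw [← Scheme.Hom.comp_apply, hma]
      exact hpJ
    let z : Z := ⟨m p, h1, h2⟩
    refine ⟨E.symm z, ?_⟩
    change p ∈ mz (E (E.symm z)) ⁻¹ᵁ W (E (E.symm z))
    rw [Equiv.apply_symm_apply]
    change mz z p ∈ W z
    haveI : LocallyQuasiFinite (pullback.snd π₀ (gz z)) := inferInstance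
    obtain ⟨q₁, hq₁⟩ := exists_gpt (pullback.snd π₀ (gz z)) (mz z p) (gpt (vz z))
      (by rw [img_gpt, hzπ z p hp])
    obtain ⟨q₂, hq₂⟩ := exists_gpt (pullback.snd π₀ (gz z)) (z' z) (gpt (vz z))
      (by rw [img_gpt, hz'v])
    have : q₁.1 = q₂.1 := (hS z.1 z.2.1 z.2.2).eq_of_pullback
      (by rw [hq₁, hmzx]) (by rw [hq₂, hz'x]) (q₁.2.trans q₂.2.symm)
    rw [← hq₁, this, hq₂]
    exact hz'W z

end WeightLib
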