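import Groth.Agent.WeightLib.Ineq
import Mathlib.AlgebraicGeometry.ZariskisMainTheorem
import Mathlib.AlgebraicGeometry.Morphisms.FlatDescent
import Mathlib.Topology.Semicontinuity.Defs

/-! Positive weightings of separated morphisms. -/

set_option autoImplicit false
set_option linter.style.haveILetI false
universe u

open AlgebraicGeometry CategoryTheory Limits IsLocalRing

namespace WeightLib

/-- Finitely many opens which are finite over the base and cover make a morphism universally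
closed. -/
theorem universallyClosed_of_cover {P V : Scheme.{u}} (π : P ⟶ V) {ι : Type} [Finite ι]
    (W : ι → P.Opens) [∀ i, IsFinite ((W i).ι ≫ π)] (hW : ∀ p, ∃ i, p ∈ W i) :
    UniversallyClosed π := by
  refine ⟨MorphismProperty.universally_mk' _ _ fun {T} g _ C hC ↦ ?_⟩
  have hsq : IsPullback (pullback.snd g π) (pullback.fst g π) π g :=
    (IsPullback.of_hasPullback g π).flip
  haveI : ∀ i, IsFinite ((pullback.snd g π ⁻¹ᵁ W i).ι ≫ pullback.fst g π) :=
    fun i ↦ isFinite_restrict hsq (W i)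
  have : pullback.fst g π '' C =
      ⋃ i, pullback.fst g π '' (((pullback.snd g π ⁻¹ᵁ W i) : Set ↥(pullback g π)) ∩ C) := by
    rw [← Set.image_iUnion, ← Set.iUnion_inter]
    congr 1
    refine (Set.inter_eq_right.mpr fun p _ ↦ ?_).symm
    obtain ⟨i, hi⟩ := hW (pullback.snd g π p)
    exact Set.mem_iUnion.mpr ⟨i, hi⟩
  rw [this]
  exact isClosed_iUnion_of_finite fun i ↦ isClosed_image_opens_inter _ _ hC

variable {X Y : Scheme.{u}} {f : X ⟶ Y} [LocallyQuasiFinite f] [LocallyOfFiniteType f]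
  [IsSeparated f] {w : X → ℤ}

/-- Near any point the fibre integral is computed by finitely many finite opens, after an etale
base change. -/
theorem exists_etale_sum (hfin : ∀ y : Y, (f ⁻¹' {y}).Finite) (hw : MoreMor.IsWeighting f w)
    (hpos : ∀ x, 0 < w x) (y : Y) :
    ∃ (V : Scheme.{u}) (g : V ⟶ Y) (_ : Etale g) (v : V) (N : V.Opens) (n : ℕ)
      (W : Fin n → (pullback f g).Opens), g v = y ∧ v ∈ N ∧
      (∀ i, IsFinite ((W i).ι ≫ pullback.snd f g)) ∧
      ∀ q ∈ N, MoreMor.fibreIntegral f w y ≤ MoreMor.fibreIntegral f w (g q) ∧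
        ∀ p, pullback.snd f g p = q → (∀ i, p ∉ W i) →
          MoreMor.fibreIntegral f w y < MoreMor.fibreIntegral f w (g q) := by
  classical
  obtain ⟨V, g, hg, v, hv, n, W, hW, hs, hd, hc⟩ := exists_split f y (f ⁻¹' {y}) (hfin y)
  haveI := fun i ↦ hW i
  let π := pullback.snd f g
  let a := pullback.fst f g
  haveI : LocallyQuasiFinite π := MorphismProperty.pullback_snd _ _ ‹_›
  haveI : IsSeparated π := MorphismProperty.pullback_snd _ _ ‹_›
  have hsq : IsPullback a π f g := IsPullback.of_hasPullback _ _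
  have hπfin : ∀ q, (π ⁻¹' {q}).Finite := fun q ↦ finite_preimage_baseChange hsq q (hfin _)
  have hclosed : ∀ i, IsClosed ((W i : (pullback f g).Opens) : Set ↥(pullback f g)) := fun i ↦ by
    haveI : IsFinite (W i).ι := IsFinite.of_comp _ π
    have := (W i).ι.isClosedMap.isClosed_range
    rwa [Scheme.Opens.range_ι] at this
  let O := ⨆ i, W i
  have hOfin : ∀ q, ((O.ι ≫ π) ⁻¹' {q}).Finite := fun q ↦ by
    have := (hπfin q).preimage (f := fun u : O.toScheme ↦ (O.ι u : ↥(pullback f g)))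
      O.ι.isOpenEmbedding.injective.injOn
    exact this
  let B : Set V := ⋃ (x : {x : Fin n × Fin n // x.1 ≠ x.2}),
    π '' ((W x.1.1 : Set ↥(pullback f g)) ∩ (W x.1.2 : Set ↥(pullback f g)))
  have hB : IsClosed B := isClosed_iUnion_of_finite fun x ↦
    isClosed_image_opens_inter π _ (hclosed _)
  have hvB : v ∉ B := by
    simp only [B, Set.mem_iUnion]
    rintro ⟨⟨⟨i, j⟩, hij⟩, p, ⟨hi, hj⟩, hp⟩
    exact hij (hd p i j hp hi hj)
  have hsum : ∀ q ∉ B, MoreMor.fibreIntegral (O.ι ≫ π) (fun u ↦ w (a (O.ι u))) q =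
      ∑ i, MoreMor.fibreIntegral ((W i).ι ≫ π) (fun u ↦ w (a ((W i).ι u))) q := fun q hq ↦ by
    refine fibreIntegral_eq_sum π O W (fun p ↦ w (a p)) q (hOfin q)
      (fun i ↦ Scheme.Hom.finite_preimage_singleton _ _) (fun p _ ↦ TopologicalSpace.Opens.mem_iSup)
      fun p i j hp hi hj ↦ ?_
    by_contra hij
    exact hq (Set.mem_iUnion.mpr ⟨⟨(i, j), hij⟩, p, ⟨hi, hj⟩, hp⟩)
  have hlc : IsLocallyConstant fun q ↦
      ∑ i, MoreMor.fibreIntegral ((W i).ι ≫ π) (fun u ↦ w (a ((W i).ι u))) q := by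
    refine Finset.sum_induction (s := (Finset.univ : Finset (Fin n)))
      (p := fun F : _ → ℤ ↦ IsLocallyConstant F) (f := fun i q ↦
        MoreMor.fibreIntegral ((W i).ι ≫ π) (fun u ↦ w (a ((W i).ι u))) q)
      (fun _ _ h h' ↦ h.add h') (IsLocallyConstant.const 0)
      (fun i _ ↦ hw V g (W i) (hW i)) |> fun h ↦ ?_
    convert h using 1
    ext q
    rw [Finset.sum_apply]
  have hbc : ∀ q, MoreMor.fibreIntegral π (fun p ↦ w (a p)) q =
      MoreMor.fibreIntegral f w (g q) := fun q ↦ fibreIntegral_baseChange hsq w q (hfin _)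
  obtain ⟨N, hvN, hN⟩ := IsLocallyConstant.exists_opens_eq hlc v
  have hy : MoreMor.fibreIntegral f w y =
      MoreMor.fibreIntegral (O.ι ≫ π) (fun u ↦ w (a (O.ι u))) v := by
    rw [← hv, ← hbc v]
    refine ((fibreIntegral_opens_le π O (fun p ↦ w (a p)) v (fun p ↦ (hpos _).le) (hπfin v)).2.1
      fun p hp ↦ TopologicalSpace.Opens.mem_iSup.mpr (hc p hp ?_)).symm
    change f (pullback.fst f g p) = y
    rw [← Scheme.Hom.comp_apply, pullback.condition, Scheme.Hom.comp_apply, ← hv]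
    exact congrArg g hp
  refine ⟨V, g, hg, v, N ⊓ ⟨Bᶜ, hB.isOpen_compl⟩, n, W, hv, ⟨hvN, hvB⟩, hW, fun q hq ↦ ?_⟩
  have hq' : MoreMor.fibreIntegral (O.ι ≫ π) (fun u ↦ w (a (O.ι u))) q =
      MoreMor.fibreIntegral f w y := by
    rw [hsum q hq.2, hy, hsum v hvB]
    exact hN q hq.1
  obtain ⟨h1, -, h3⟩ :=
    fibreIntegral_opens_le π O (fun p ↦ w (a p)) q (fun p ↦ (hpos _).le) (hπfin q)
  rw [← hbc q, ← hq']
  refine ⟨h1, fun p hp hpW ↦ ?_⟩
  have := h3 p hp fun h ↦ by
    obtain ⟨i, hi⟩ := TopologicalSpace.Opens.mem_iSup.mp h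
    exact hpW i hi
  have := hpos (a p)
  omega

theorem lowerSemicontinuous_fibreIntegral (hfin : ∀ y : Y, (f ⁻¹' {y}).Finite)
    (hw : MoreMor.IsWeighting f w) (hpos : ∀ x, 0 < w x) :
    LowerSemicontinuous (MoreMor.fibreIntegral f w) := by
  intro y c hc
  obtain ⟨V, g, _, v, N, n, W, rfl, hv, -, hN⟩ := exists_etale_sum hfin hw hpos y
  filter_upwards [(g.isOpenMap _ N.isOpen).mem_nhds ⟨v, hv, rfl⟩]
  rintro _ ⟨q, hq, rfl⟩
  exact hc.trans_le (hN q hq).1

/-- A separated morphism with a positive weighting of constant fibre integral is finite. -/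
theorem isFinite_of_fibreIntegral_const (hfin : ∀ y : Y, (f ⁻¹' {y}).Finite)
    (hw : MoreMor.IsWeighting f w) (hpos : ∀ x, 0 < w x) (d : ℤ)
    (hd : ∀ y, MoreMor.fibreIntegral f w y = d) : IsFinite f := by
  choose V g hg v N n W hgv hvN hW hN using exists_etale_sum hfin hw hpos
  haveI : UniversallyClosed f := by
    let M : Y → Y.Opens := fun y ↦ ⟨g y '' N y, (g y).isOpenMap _ (N y).isOpen⟩
    refine IsZariskiLocalAtTarget.of_iSup_eq_top M
      (TopologicalSpace.Opens.ext (Set.eq_univ_of_forall fun y ↦ ?_)) fun y ↦ ?_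
    · exact TopologicalSpace.Opens.mem_iSup.mpr ⟨y, v y, hvN y, hgv y⟩
    let k : (N y).toScheme ⟶ (M y).toScheme :=
      (g y).resLE (M y) (N y) fun q hq ↦ ⟨q, hq, rfl⟩
    haveI : Surjective k := ⟨fun ⟨_, q, hq, rfl⟩ ↦ ⟨⟨q, hq⟩, Subtype.ext (by simp [k])⟩⟩
    let π := pullback.snd f (g y)
    have hπN : IsPullback (π ⁻¹ᵁ N y).ι (π ∣_ N y) π (N y).ι :=
      (isPullback_morphismRestrict π (N y)).flip
    have hP' : IsPullback ((π ⁻¹ᵁ N y).ι ≫ pullback.fst f (g y)) (π ∣_ N y) f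
        ((N y).ι ≫ g y) := hπN.paste_horiz (IsPullback.of_hasPullback _ _)
    have hfM : IsPullback (f ⁻¹ᵁ M y).ι (f ∣_ M y) f (M y).ι :=
      (isPullback_morphismRestrict f (M y)).flip
    obtain ⟨m, hm, hma⟩ := exists_isPullback_map (a' := (π ⁻¹ᵁ N y).ι ≫ pullback.fst f (g y))
      (π' := π ∣_ N y) (g' := k ≫ (M y).ι) (isPullback_morphismRestrict f (M y)).flip
      (by
        have : k ≫ (M y).ι = (N y).ι ≫ g y := Scheme.Hom.resLE_comp_ι ..
        rw [this]
        exact hP') k rfl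
    haveI : ∀ i, IsFinite (((π ⁻¹ᵁ N y).ι ⁻¹ᵁ W y i).ι ≫ π ∣_ N y) := fun i ↦ by
      haveI := hW y i
      exact isFinite_restrict hπN (W y i)
    have hUC : UniversallyClosed (π ∣_ N y) := by
      refine universallyClosed_of_cover _ (fun i ↦ (π ⁻¹ᵁ N y).ι ⁻¹ᵁ W y i) fun p ↦ ?_
      by_contra hp
      simp only [not_exists] at hp
      have := (hN y (π p.1) p.2).2 p.1 rfl hp
      rw [hd, hd] at this
      exact lt_irrefl _ this
    exact MorphismProperty.of_isPullback_of_descendsAlong (P := @UniversallyClosed)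
      (Q := @Surjective ⊓ @Flat ⊓ @LocallyOfFinitePresentation) hm.flip
      ⟨⟨‹_›, inferInstance⟩, inferInstance⟩ hUC
  haveI : IsProper f := ⟨⟩
  exact IsFinite.of_isProper_of_locallyQuasiFinite f

end WeightLib
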