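import Groth.Agent.WeightLib.Decomp
import Mathlib.AlgebraicGeometry.Morphisms.Etale
import Mathlib.AlgebraicGeometry.PullbackCarrier

/-! Splittings of fibres into finite opens with one geometric point each. -/

set_option autoImplicit false
set_option linter.style.haveILetI false
universe u

open AlgebraicGeometry CategoryTheory Limits IsLocalRing

namespace WeightLib

variable {P V X : Scheme.{u}}

/-- Over `v`, the points of `P` lying over `J ⊆ X` are covered disjointly by opens which are finite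
over `V` and have at most one geometric point over `v`. -/
def HasSplit (a : P ⟶ X) (π : P ⟶ V) (v : V) (J : Set X) : Prop :=
  ∃ (n : ℕ) (W : Fin n → P.Opens), (∀ i, IsFinite ((W i).ι ≫ π)) ∧
    (∀ i, GSingle ((W i).ι ≫ π) v) ∧ (∀ p i j, π p = v → p ∈ W i → p ∈ W j → i = j) ∧
    ∀ p, π p = v → a p ∈ J → ∃ i, p ∈ W i

theorem isPullback_restrict {P' V' : Scheme.{u}} {π : P ⟶ V} {π' : P' ⟶ V'} {m : P' ⟶ P}
    {k : V' ⟶ V} (hm : IsPullback m π' π k) (W : P.Opens) :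
    IsPullback (m ∣_ W) ((m ⁻¹ᵁ W).ι ≫ π') (W.ι ≫ π) k :=
  (isPullback_morphismRestrict m W).paste_vert hm

theorem isFinite_restrict {P' V' : Scheme.{u}} {π : P ⟶ V} {π' : P' ⟶ V'} {m : P' ⟶ P}
    {k : V' ⟶ V} (hm : IsPullback m π' π k) (W : P.Opens) [IsFinite (W.ι ≫ π)] :
    IsFinite ((m ⁻¹ᵁ W).ι ≫ π') :=
  MorphismProperty.of_isPullback (isPullback_restrict hm W) ‹_›

theorem HasSplit.baseChange {a : P ⟶ X} {π : P ⟶ V} {v : V} {J : Set X} (h : HasSplit a π v J)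
    {P' V' : Scheme.{u}} {π' : P' ⟶ V'} {m : P' ⟶ P} {k : V' ⟶ V} (hm : IsPullback m π' π k)
    {v' : V'} (hv : k v' = v) {a' : P' ⟶ X} (ha : m ≫ a = a') : HasSplit a' π' v' J := by
  obtain ⟨n, W, hW, hs, hd, hc⟩ := h
  have hπ : ∀ p, π' p = v' → π (m p) = v := fun p hp ↦ by
    rw [← Scheme.Hom.comp_apply, hm.w, Scheme.Hom.comp_apply, hp, hv]
  refine ⟨n, fun i ↦ m ⁻¹ᵁ W i, fun i ↦ ?_,
    fun i ↦ (hs i).baseChange (isPullback_restrict hm (W i)) hv,
    fun p i j hp hi hj ↦ hd (m p) i j (hπ p hp) hi hj, fun p hp hpJ ↦ hc (m p) (hπ p hp) ?_⟩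
  · haveI := hW i
    exact isFinite_restrict hm (W i)
  · rw [← Scheme.Hom.comp_apply, ha]
    exact hpJ

theorem fibreIntegral_restrict {P' V' : Scheme.{u}} {π : P ⟶ V} {π' : P' ⟶ V'} {m : P' ⟶ P}
    {k : V' ⟶ V} (hm : IsPullback m π' π k) (W : P.Opens) [IsFinite (W.ι ≫ π)] (w : P → ℤ)
    (v' : V') :
    MoreMor.fibreIntegral ((m ⁻¹ᵁ W).ι ≫ π') (fun u ↦ w (m ((m ⁻¹ᵁ W).ι u))) v' =
      MoreMor.fibreIntegral (W.ι ≫ π) (fun u ↦ w (W.ι u)) (k v') := by
  rw [← fibreIntegral_baseChange (isPullback_restrict hm W) (fun u ↦ w (W.ι u)) v'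
    (Scheme.Hom.finite_preimage_singleton _ _)]
  congr 1
  ext u
  rw [← Scheme.Hom.comp_apply (m ∣_ W), morphismRestrict_ι, Scheme.Hom.comp_apply]

/-- The square used to base change a cartesian square. -/
theorem exists_isPullback_map {Y : Scheme.{u}} {f : X ⟶ Y} {g : V ⟶ Y} {a : P ⟶ X} {π : P ⟶ V}
    (hP : IsPullback a π f g) {P' V' : Scheme.{u}} {a' : P' ⟶ X} {π' : P' ⟶ V'} {g' : V' ⟶ Y}
    (hP' : IsPullback a' π' f g') (k : V' ⟶ V) (hk : k ≫ g = g') :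
    ∃ m : P' ⟶ P, IsPullback m π' π k ∧ m ≫ a = a' := by
  subst hk
  refine ⟨hP.lift a' (π' ≫ k) (by rw [hP'.w, Category.assoc]), ?_, hP.lift_fst ..⟩
  exact IsPullback.of_right (h₁₂ := a) (by rwa [hP.lift_fst]) (hP.lift_snd ..) hP

/-- A function on `V` which becomes constant near a point of an étale neighbourhood of every point
is locally constant. -/
theorem isLocallyConstant_of_etale {T : Type*} {F : V → T}
    (h : ∀ v, ∃ (V' : Scheme.{u}) (k : V' ⟶ V) (_ : IsOpenMap k) (v' : V') (N : V'.Opens),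
      k v' = v ∧ v' ∈ N ∧ ∀ q ∈ N, F (k q) = F v) : IsLocallyConstant F := by
  rw [IsLocallyConstant.iff_eventually_eq]
  intro v
  obtain ⟨V', k, hk, v', N, rfl, hN, hF⟩ := h v
  filter_upwards [(hk _ N.isOpen).mem_nhds ⟨v', hN, rfl⟩]
  rintro _ ⟨q, hq, rfl⟩
  exact hF q hq

theorem IsLocallyConstant.exists_opens_eq {T : Type*} {F : V → T} (hF : IsLocallyConstant F)
    (v : V) : ∃ N : V.Opens, v ∈ N ∧ ∀ q ∈ N, F q = F v :=
  ⟨⟨F ⁻¹' {F v}, hF _⟩, rfl, fun _ hq ↦ hq⟩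

end WeightLib
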