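import Groth.Agent.WeightLib.Split
import Groth.Agent.WeightLib.Local
import Mathlib.AlgebraicGeometry.Morphisms.UniversallyOpen

/-! Weightings: universality, composition. -/

set_option autoImplicit false
set_option linter.style.haveILetI false
universe u

open AlgebraicGeometry CategoryTheory Limits IsLocalRing

namespace WeightLib

variable {X Y : Scheme.{u}}

/-- The fibre integrals of a weighting are locally constant after an arbitrary base change. -/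
theorem isLocallyConstant_fibreIntegral {f : X ⟶ Y} [LocallyQuasiFinite f] [LocallyOfFiniteType f]
    {w : X → ℤ} (hw : MoreMor.IsWeighting f w) {P V : Scheme.{u}} {a : P ⟶ X} {π : P ⟶ V}
    {γ : V ⟶ Y} (hP : IsPullback a π f γ) (U : P.Opens) [IsFinite (U.ι ≫ π)] :
    IsLocallyConstant (MoreMor.fibreIntegral (U.ι ≫ π) fun u ↦ w (a (U.ι u))) := by
  classical
  refine isLocallyConstant_of_etale fun v ↦ ?_
  let J : Set X := (fun u ↦ a (U.ι u)) '' ((U.ι ≫ π) ⁻¹' {v})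
  obtain ⟨V₀, g₀, hg₀, v₀, hv₀, hs⟩ :=
    exists_split f (γ v) J ((Scheme.Hom.finite_preimage_singleton _ _).image _)
  obtain ⟨n, W, hW, hsing, hdis, hcov⟩ := hs
  obtain ⟨v₁, hv₁, hv₁'⟩ := Scheme.Pullback.exists_preimage_pullback (f := γ) (g := g₀) v v₀ hv₀.symm
  let k := pullback.fst γ g₀
  let k₀ := pullback.snd γ g₀
  let π₁ := pullback.snd π k
  let m := pullback.fst π k
  have hm : IsPullback m π₁ π k := IsPullback.of_hasPullback _ _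
  have hP₁ : IsPullback (m ≫ a) π₁ f (k ≫ γ) := hm.paste_horiz hP
  obtain ⟨m₀, hm₀, hm₀a⟩ := exists_isPullback_map (IsPullback.of_hasPullback f g₀) hP₁ k₀
    pullback.condition.symm
  haveI := fun i ↦ hW i
  haveI : ∀ i, IsFinite ((m₀ ⁻¹ᵁ W i).ι ≫ π₁) := fun i ↦ isFinite_restrict hm₀ _
  haveI := isFinite_restrict hm U
  have hπ₀ : ∀ p, π₁ p = v₁ → pullback.snd f g₀ (m₀ p) = v₀ := fun p hp ↦ by
    rw [← Scheme.Hom.comp_apply, hm₀.w, Scheme.Hom.comp_apply, hp]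
    exact hv₁'
  let T := {i : Fin n // ∃ p, π₁ p = v₁ ∧ p ∈ m ⁻¹ᵁ U ∧ p ∈ m₀ ⁻¹ᵁ W i}
  have huniq : ∀ i p q, π₁ p = v₁ → π₁ q = v₁ → p ∈ m₀ ⁻¹ᵁ W i → q ∈ m₀ ⁻¹ᵁ W i → p = q := by
    intro i p q hp hq hpW hqW
    exact congrArg Subtype.val (((hsing i).baseChange (isPullback_restrict hm₀ (W i)) hv₁').eq
      (a := ⟨p, hpW⟩) (b := ⟨q, hqW⟩) hp hq)
  have hcT : ∀ p, π₁ p = v₁ → (p ∈ m ⁻¹ᵁ U ↔ ∃ i : T, p ∈ m₀ ⁻¹ᵁ W i.1) := by
    intro p hp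
    refine ⟨fun hpU ↦ ?_, fun ⟨⟨i, q, hq, hqU, hqW⟩, hpW⟩ ↦ ?_⟩
    · have hpJ : pullback.fst f g₀ (m₀ p) ∈ J := by
        rw [← Scheme.Hom.comp_apply, hm₀a, Scheme.Hom.comp_apply]
        refine ⟨⟨m p, hpU⟩, ?_, rfl⟩
        change π (m p) = v
        rw [← Scheme.Hom.comp_apply, hm.w, Scheme.Hom.comp_apply, hp]
        exact hv₁
      obtain ⟨i, hi⟩ := hcov (m₀ p) (hπ₀ p hp) hpJ
      exact ⟨⟨i, p, hp, hpU, hi⟩, hi⟩
    · rwa [huniq i q p hq hp hqW hpW] at hqU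
  obtain ⟨N, hN, hsum⟩ := exists_nhd_fibreIntegral_eq_sum π₁ (m ⁻¹ᵁ U)
    (fun i : T ↦ m₀ ⁻¹ᵁ W i.1) v₁ hcT
    (fun p i j hp hi hj ↦ Subtype.ext (hdis (m₀ p) i.1 j.1 (hπ₀ p hp) hi hj))
    (fun p ↦ w (a (m p)))
  have hlc : IsLocallyConstant fun q ↦
      ∑ i : T, MoreMor.fibreIntegral ((m₀ ⁻¹ᵁ W i.1).ι ≫ π₁)
        (fun u ↦ w (a (m ((m₀ ⁻¹ᵁ W i.1).ι u)))) q := by
    have he : ∀ (i : T) q, MoreMor.fibreIntegral ((m₀ ⁻¹ᵁ W i.1).ι ≫ π₁)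
        (fun u ↦ w (a (m ((m₀ ⁻¹ᵁ W i.1).ι u)))) q = MoreMor.fibreIntegral
          ((W i.1).ι ≫ pullback.snd f g₀)
          (fun u ↦ w (pullback.fst f g₀ ((W i.1).ι u))) (k₀ q) := fun i q ↦ by
      rw [← fibreIntegral_restrict hm₀ (W i.1) (fun p ↦ w (pullback.fst f g₀ p)) q]
      congr 1
      ext u
      rw [← Scheme.Hom.comp_apply m₀, hm₀a]
      rfl
    simp only [he]
    refine Finset.sum_induction (s := (Finset.univ : Finset T))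
      (p := fun F : _ → ℤ ↦ IsLocallyConstant F) (f := fun i q ↦ MoreMor.fibreIntegral
          ((W i.1).ι ≫ pullback.snd f g₀)
          (fun u ↦ w (pullback.fst f g₀ ((W i.1).ι u))) (k₀ q))
      (fun _ _ h h' ↦ h.add h') (IsLocallyConstant.const 0)
      (fun i _ ↦ (hw V₀ g₀ (W i.1) (hW i.1)).comp_continuous k₀.continuous) |> fun h ↦ ?_
    convert h using 1
    ext q
    rw [Finset.sum_apply]
  obtain ⟨N', hN', hc'⟩ := IsLocallyConstant.exists_opens_eq hlc v₁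
  refine ⟨_, k, k.isOpenMap, v₁, N ⊓ N', hv₁, ⟨hN, hN'⟩, fun q hq ↦ ?_⟩
  have e : ∀ q ∈ N, MoreMor.fibreIntegral (U.ι ≫ π) (fun u ↦ w (a (U.ι u))) (k q) =
      ∑ i : T, MoreMor.fibreIntegral ((m₀ ⁻¹ᵁ W i.1).ι ≫ π₁)
        (fun u ↦ w (a (m ((m₀ ⁻¹ᵁ W i.1).ι u)))) q := fun q hq ↦ by
    rw [← hsum q hq, ← fibreIntegral_restrict hm U (fun p ↦ w (a p)) q]
  rw [e q hq.1, hc' q hq.2, ← e v₁ hN]
  rw [hv₁]

end WeightLib
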