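import Groth.Agent.WeightLib.Weighting

/-! Composition of weightings. -/

set_option autoImplicit false
set_option linter.style.haveILetI false
universe u

open AlgebraicGeometry CategoryTheory Limits IsLocalRing

namespace WeightLib

theorem fibreIntegral_iso {U U' V : Scheme.{u}} (π : U ⟶ V) [LocallyQuasiFinite π] (e : U' ≅ U)
    (w : U → ℤ) (v : V) (hfin : (π ⁻¹' {v}).Finite) :
    MoreMor.fibreIntegral (e.hom ≫ π) (fun u ↦ w (e.hom u)) v = MoreMor.fibreIntegral π w v :=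
  fibreIntegral_baseChange (g := 𝟙 V) (IsPullback.of_horiz_isIso ⟨by simp⟩) w v hfin

/-- The fibre integral of a composite. -/
theorem fibreIntegral_comp {U V W : Scheme.{u}} (b : U ⟶ V) [IsFinite b] (q : V ⟶ W) [IsFinite q]
    (w₁ : U → ℤ) (w₂ : V → ℤ) (v : W) :
    MoreMor.fibreIntegral (b ≫ q) (fun u ↦ w₁ u * w₂ (b u)) v =
      MoreMor.fibreIntegral q (fun t ↦ w₂ t * MoreMor.fibreIntegral b w₁ t) v := by
  classical
  let pv := gpt v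
  have hpv : img pv = v := img_gpt v
  have h1 := Scheme.Hom.finite_preimage_singleton (b ≫ q) v
  have h2 := Scheme.Hom.finite_preimage_singleton q v
  haveI := finite_gpts q pv (by rw [hpv]; exact h2)
  haveI := finite_gpts (b ≫ q) pv (by rw [hpv]; exact h1)
  haveI : ∀ t : GPts q pv, Finite (GPts b t.1) :=
    fun t ↦ finite_gpts b t.1 (Scheme.Hom.finite_preimage_singleton b _)
  letI := Fintype.ofFinite (GPts q pv)
  letI := Fintype.ofFinite (GPts (b ≫ q) pv)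
  letI : ∀ t : GPts q pv, Fintype (GPts b t.1) := fun t ↦ Fintype.ofFinite _
  rw [fibreIntegral_eq (b ≫ q) _ v h1 pv hpv, fibreIntegral_eq q _ v h2 pv hpv,
    finsum_eq_sum_of_fintype, finsum_eq_sum_of_fintype,
    ← Equiv.sum_comp (gptsCompEquiv b q pv).symm, Fintype.sum_sigma]
  refine Finset.sum_congr rfl fun t _ ↦ ?_
  rw [fibreIntegral_eq b w₁ (img t.1) (Scheme.Hom.finite_preimage_singleton b _) t.1 rfl,
    finsum_eq_sum_of_fintype, Finset.mul_sum]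
  refine Finset.sum_congr rfl fun s _ ↦ ?_
  change w₁ (img s.1) * w₂ (b (img s.1)) = _
  rw [show b (img s.1) = img t.1 by rw [← img_comp, s.2], mul_comm]

variable {X Y : Scheme.{u}} {f : X ⟶ Y} [LocallyQuasiFinite f] [LocallyOfFiniteType f]
  {wf : X → ℤ}

theorem piece_of_le (hf : MoreMor.IsWeighting f wf) (wg : Y → ℤ) {P Q V : Scheme.{u}}
    {a : P ⟶ X} {qm : P ⟶ Q} {c : Q ⟶ Y} (hP : IsPullback a qm f c) {π : Q ⟶ V}
    (R : P.Opens) (W : Q.Opens) [IsFinite (R.ι ≫ qm ≫ π)] [IsFinite (W.ι ≫ π)]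
    (hRW : ∀ p ∈ R, qm p ∈ W) {v : V} (hs : GSingle (W.ι ≫ π) v) :
    ∃ (C : ℤ) (N : V.Opens), v ∈ N ∧ ∀ q ∈ N,
      MoreMor.fibreIntegral (R.ι ≫ qm ≫ π) (fun u ↦ wf (a (R.ι u)) * wg (c (qm (R.ι u)))) q =
        C * MoreMor.fibreIntegral (W.ι ≫ π) (fun t ↦ wg (c (W.ι t))) q := by
  classical
  let S := qm ⁻¹ᵁ W
  let qW : S.toScheme ⟶ W.toScheme := qm ∣_ W
  have hqW : qW ≫ W.ι = S.ι ≫ qm := morphismRestrict_ι ..
  have hS : IsPullback (S.ι ≫ a) qW f (W.ι ≫ c) :=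
    (isPullback_morphismRestrict qm W).flip.paste_horiz hP
  let O := S.ι ⁻¹ᵁ R
  let e : O.toScheme ≅ R.toScheme := IsOpenImmersion.isoOfRangeEq (O.ι ≫ S.ι) R.ι (by
    rw [Scheme.Hom.comp_base, TopCat.coe_comp, Set.range_comp, Scheme.Opens.range_ι,
      Scheme.Opens.range_ι]
    refine subset_antisymm (by rintro _ ⟨p, hp, rfl⟩; exact hp) fun p hp ↦ ?_
    exact ⟨⟨p, hRW p hp⟩, hp, rfl⟩)
  have he : e.hom ≫ R.ι = O.ι ≫ S.ι := IsOpenImmersion.isoOfRangeEq_hom_fac ..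
  have hb : (O.ι ≫ qW) ≫ W.ι ≫ π = e.hom ≫ R.ι ≫ qm ≫ π := by
    simp only [Category.assoc, reassoc_of% he, reassoc_of% hqW]
  haveI : IsFinite ((O.ι ≫ qW) ≫ W.ι ≫ π) := by
    rw [hb]
    infer_instance
  haveI : IsFinite (O.ι ≫ qW) := IsFinite.of_comp _ (W.ι ≫ π)
  let φ := MoreMor.fibreIntegral (O.ι ≫ qW) fun u ↦ wf ((S.ι ≫ a) (O.ι u))
  have hφ : IsLocallyConstant φ := isLocallyConstant_fibreIntegral hf hS O
  obtain ⟨C, hC⟩ : ∃ C, ∀ t : W.toScheme, (W.ι ≫ π) t = v → φ t = C := by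
    by_cases h : ∃ t : W.toScheme, (W.ι ≫ π) t = v
    · obtain ⟨t₀, ht₀⟩ := h
      exact ⟨φ t₀, fun t ht ↦ congrArg φ (hs.eq ht ht₀)⟩
    · exact ⟨0, fun t ht ↦ (h ⟨t, ht⟩).elim⟩
  let bad : Set V := (W.ι ≫ π) '' (φ ⁻¹' {C})ᶜ
  have hbad : IsClosed bad := (W.ι ≫ π).isClosedMap _ (hφ _).isClosed_compl
  refine ⟨C, ⟨badᶜ, hbad.isOpen_compl⟩, ?_, fun q hq ↦ ?_⟩
  · rintro ⟨t, ht, htv⟩
    exact ht (hC t htv)
  rw [← fibreIntegral_iso (R.ι ≫ qm ≫ π) e (fun u ↦ wf (a (R.ι u)) * wg (c (qm (R.ι u)))) q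
    (Scheme.Hom.finite_preimage_singleton _ _)]
  have hfun : (fun u ↦ wf (a (R.ι (e.hom u))) * wg (c (qm (R.ι (e.hom u))))) =
      fun u ↦ wf ((S.ι ≫ a) (O.ι u)) * wg (c (W.ι ((O.ι ≫ qW) u))) := by
    ext u
    rw [← Scheme.Hom.comp_apply e.hom, he, ← Scheme.Hom.comp_apply (O.ι ≫ qW), Category.assoc, hqW]
    rfl
  simp only [hfun, ← hb]
  rw [fibreIntegral_comp (O.ι ≫ qW) (W.ι ≫ π) (fun u ↦ wf ((S.ι ≫ a) (O.ι u)))
      (fun t ↦ wg (c (W.ι t))) q,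
    MoreMor.fibreIntegral, MoreMor.fibreIntegral, mul_finsum]
  refine finsum_congr fun t ↦ ?_
  have : φ t.1 = C := by
    by_contra h
    exact hq ⟨t.1, h, t.2⟩
  change wg (c (W.ι t.1)) * φ t.1 * _ = _
  rw [this]
  ring

theorem piece (hf : MoreMor.IsWeighting f wf) {Z : Scheme.{u}} {g : Y ⟶ Z} [LocallyQuasiFinite g]
    [LocallyOfFiniteType g] {wg : Y → ℤ} (hg : MoreMor.IsWeighting g wg) {P Q V : Scheme.{u}}
    {a : P ⟶ X} {qm : P ⟶ Q} {c : Q ⟶ Y} (hP : IsPullback a qm f c) {π : Q ⟶ V} {γ : V ⟶ Z}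
    (hQ : IsPullback c π g γ) (R : P.Opens) (W : Q.Opens) [IsFinite (R.ι ≫ qm ≫ π)]
    [IsFinite (W.ι ≫ π)] {v : V} (hRW : ∀ p, π (qm p) = v → p ∈ R → qm p ∈ W)
    (hs : GSingle (W.ι ≫ π) v) :
    ∃ (N : V.Opens), v ∈ N ∧ ∀ q ∈ N,
      MoreMor.fibreIntegral (R.ι ≫ qm ≫ π) (fun u ↦ wf (a (R.ι u)) * wg (c (qm (R.ι u)))) q =
        MoreMor.fibreIntegral (R.ι ≫ qm ≫ π) (fun u ↦ wf (a (R.ι u)) * wg (c (qm (R.ι u)))) v := by
  obtain ⟨N, hv, hN⟩ := exists_nhd_subset (qm ≫ π) R (qm ⁻¹ᵁ W) v hRW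
  let QN := π ⁻¹ᵁ N
  let PN := qm ⁻¹ᵁ QN
  have hQN : IsPullback QN.ι (π ∣_ N) π N.ι := (isPullback_morphismRestrict π N).flip
  have hPN : IsPullback PN.ι (qm ∣_ QN) qm QN.ι := (isPullback_morphismRestrict qm QN).flip
  have hPQN : IsPullback PN.ι (qm ∣_ QN ≫ π ∣_ N) (qm ≫ π) N.ι := hPN.paste_vert hQN
  haveI := isFinite_restrict hQN W
  haveI := isFinite_restrict hPQN R
  obtain ⟨C, N', hv', hN'⟩ := piece_of_le hf wg (hPN.paste_horiz hP) (π := π ∣_ N)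
    (PN.ι ⁻¹ᵁ R) (QN.ι ⁻¹ᵁ W) (fun p hp ↦ by
      change QN.ι ((qm ∣_ QN) p) ∈ W
      rw [← Scheme.Hom.comp_apply, morphismRestrict_ι, Scheme.Hom.comp_apply]
      exact hN _ p.2 hp) (v := ⟨v, hv⟩) (hs.baseChange (isPullback_restrict hQN W) rfl)
  obtain ⟨N'', hv'', hN''⟩ := IsLocallyConstant.exists_opens_eq
    (isLocallyConstant_fibreIntegral hg hQ W) v
  have key : ∀ q : N.toScheme, q ∈ N' →
      MoreMor.fibreIntegral (R.ι ≫ qm ≫ π) (fun u ↦ wf (a (R.ι u)) * wg (c (qm (R.ι u)))) q.1 =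
        C * MoreMor.fibreIntegral (W.ι ≫ π) (fun t ↦ wg (c (W.ι t))) q.1 := by
    intro q hq
    rw [show q.1 = N.ι q from rfl,
      ← fibreIntegral_restrict hPQN R (fun p ↦ wf (a p) * wg (c (qm p))) q,
      ← fibreIntegral_restrict hQN W (fun t ↦ wg (c t)) q]
    refine Eq.trans ?_ (hN' q hq)
    congr 1
    ext u
    simp only [← Scheme.Hom.comp_apply]
    congr 2
    simp only [morphismRestrict_ι_assoc, Category.assoc]
    rfl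
  refine ⟨(N.ι ''ᵁ N') ⊓ N'', ⟨⟨⟨v, hv⟩, hv', rfl⟩, hv''⟩, ?_⟩
  rintro _ ⟨⟨q, hq, rfl⟩, hq''⟩
  refine (key q hq).trans ?_
  rw [key ⟨v, hv⟩ hv', hN'' q.1 hq'']

/-- The composite of two weightings is a weighting. -/
theorem isWeighting_comp (hf : MoreMor.IsWeighting f wf) {Z : Scheme.{u}} (g : Y ⟶ Z)
    [LocallyQuasiFinite g] [LocallyOfFiniteType g] {wg : Y → ℤ} (hg : MoreMor.IsWeighting g wg) :
    MoreMor.IsWeighting (f ≫ g) (fun x ↦ wf x * wg (f x)) := by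
  classical
  intro V γ _ U hU
  refine isLocallyConstant_of_etale fun v ↦ ?_
  haveI := hU
  let b : U.toScheme ⟶ V := U.ι ≫ pullback.snd (f ≫ g) γ
  let a₀ : U.toScheme ⟶ X := U.ι ≫ pullback.fst (f ≫ g) γ
  let J : Set Y := (fun u ↦ f (a₀ u)) '' (b ⁻¹' {v})
  obtain ⟨V₀, g₀, _, v₀, hv₀, hsg⟩ :=
    exists_split g (γ v) J ((Scheme.Hom.finite_preimage_singleton b v).image _)
  obtain ⟨V', k', _, v', hv', hsb⟩ := exists_split b v (b ⁻¹' {v})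
    (Scheme.Hom.finite_preimage_singleton b v)
  obtain ⟨v₁, hv₁, hv₁'⟩ := Scheme.Pullback.exists_preimage_pullback (f := γ) (g := g₀) v v₀ hv₀.symm
  obtain ⟨v₂, hv₂, hv₂'⟩ := Scheme.Pullback.exists_preimage_pullback
    (f := pullback.fst γ g₀) (g := k') v₁ v' (hv₁.trans hv'.symm)
  let V₂ := pullback (pullback.fst γ g₀) k'
  let κ : V₂ ⟶ V := pullback.fst (pullback.fst γ g₀) k' ≫ pullback.fst γ g₀
  have hκ : κ v₂ = v := by rw [Scheme.Hom.comp_apply, hv₂, hv₁]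
  let Q₂ := pullback g (κ ≫ γ)
  let P₂ := pullback (f ≫ g) (κ ≫ γ)
  let a₂ : P₂ ⟶ X := pullback.fst _ _
  let π₂ : P₂ ⟶ V₂ := pullback.snd _ _
  let qm : P₂ ⟶ Q₂ := pullback.lift (a₂ ≫ f) π₂ (by rw [Category.assoc]; exact pullback.condition)
  let c₂ : Q₂ ⟶ Y := pullback.fst _ _
  let πQ : Q₂ ⟶ V₂ := pullback.snd _ _
  have hqm : qm ≫ πQ = π₂ := pullback.lift_snd ..
  have hqc : qm ≫ c₂ = a₂ ≫ f := pullback.lift_fst ..
  have hQ : IsPullback c₂ πQ g (κ ≫ γ) := IsPullback.of_hasPullback _ _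
  have hP : IsPullback a₂ qm f c₂ :=
    IsPullback.of_bot (by rw [hqm]; exact IsPullback.of_hasPullback _ _) hqc.symm hQ
  obtain ⟨m, hm, hma⟩ := exists_isPullback_map (IsPullback.of_hasPullback (f ≫ g) γ)
    (IsPullback.of_hasPullback (f ≫ g) (κ ≫ γ)) κ rfl
  obtain ⟨mQ, hmQ, hmQc⟩ := exists_isPullback_map (IsPullback.of_hasPullback g g₀) hQ
    (pullback.fst (pullback.fst γ g₀) k' ≫ pullback.snd γ g₀)
    (by rw [Category.assoc, ← pullback.condition, ← Category.assoc])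
  obtain ⟨n, W, hW, hWs, hWd, hWc⟩ := hsg.baseChange hmQ (v' := v₂)
    (by rw [Scheme.Hom.comp_apply, hv₂, hv₁']) hmQc
  let U₂ := m ⁻¹ᵁ U
  have hU₂ : IsPullback (m ∣_ U) (U₂.ι ≫ π₂) b κ := isPullback_restrict hm U
  haveI : IsFinite (U₂.ι ≫ π₂) := isFinite_restrict hm U
  obtain ⟨mR, hmR, hmRa⟩ := exists_isPullback_map (IsPullback.of_hasPullback b k') hU₂
    (pullback.snd (pullback.fst γ g₀) k') pullback.condition.symm
  obtain ⟨r, R', hR', hR's, hR'd, hR'c⟩ := hsb.baseChange hmR (v' := v₂) hv₂' hmRa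
  let R : Fin r → P₂.Opens := fun j ↦ U₂.ι ''ᵁ R' j
  haveI hR : ∀ j, IsFinite ((R j).ι ≫ π₂) := fun j ↦ by
    have he : ((U₂.ι).isoImage (R' j)).hom ≫ (R j).ι = (R' j).ι ≫ U₂.ι :=
      Scheme.Hom.isoImage_hom_ι ..
    rw [← MorphismProperty.cancel_left_of_respectsIso @IsFinite ((U₂.ι).isoImage (R' j)).hom,
      reassoc_of% he]
    exact hR' j
  haveI := hW
  have hRU : ∀ p, π₂ p = v₂ → (p ∈ U₂ ↔ ∃ j, p ∈ R j) := fun p hp ↦ by
    refine ⟨fun h ↦ ?_, fun ⟨j, q, _, hq⟩ ↦ hq ▸ q.2⟩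
    obtain ⟨j, hj⟩ := hR'c ⟨p, h⟩ hp (by
      change b ((m ∣_ U) ⟨p, h⟩) = v
      rw [← Scheme.Hom.comp_apply, hU₂.w, Scheme.Hom.comp_apply]
      exact (congrArg κ hp).trans hκ)
    exact ⟨j, ⟨p, h⟩, hj, rfl⟩
  obtain ⟨N, hN, hsum⟩ := exists_nhd_fibreIntegral_eq_sum π₂ U₂ R v₂ hRU
    (fun p i j hp ⟨q, hq, hqp⟩ ⟨q', hq', hqp'⟩ ↦ by
      obtain rfl : q = q' := U₂.ι.isOpenEmbedding.injective (hqp.trans hqp'.symm)
      exact hR'd q i j (show π₂ (U₂.ι q) = v₂ from (congrArg π₂ hqp).trans hp) hq hq')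
    (fun p ↦ wf (a₂ p) * wg (f (a₂ p)))
  let G : Fin r → V₂ → ℤ := fun j ↦
    MoreMor.fibreIntegral ((R j).ι ≫ π₂) (fun u ↦ wf (a₂ ((R j).ι u)) * wg (f (a₂ ((R j).ι u))))
  have hpiece : ∀ j, ∃ Nj : V₂.Opens, v₂ ∈ Nj ∧ ∀ q ∈ Nj, G j q = G j v₂ := by
    intro j
    by_cases h : ∃ p, π₂ p = v₂ ∧ p ∈ R j
    swap
    · obtain ⟨N', hv', hN'⟩ := exists_nhd_subset π₂ (R j) ⊥ v₂ fun p hp hpR ↦ (h ⟨p, hp, hpR⟩).elim
      have h0 : ∀ q ∈ N', G j q = 0 := fun q hq ↦ by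
        haveI : IsEmpty {u : (R j).toScheme // ((R j).ι ≫ π₂) u = q} := ⟨fun u ↦ by
          have hu : π₂ u.1.1 ∈ N' := by rw [show π₂ u.1.1 = q from u.2]; exact hq
          exact (hN' u.1.1 hu u.1.2).elim⟩
        exact finsum_of_isEmpty _
      exact ⟨N', hv', fun q hq ↦ by rw [h0 q hq, h0 v₂ hv']⟩
    obtain ⟨p₀, hp₀, q₀, hq₀, rfl⟩ := h
    obtain ⟨i, hi⟩ := hWc (qm (U₂.ι q₀)) (by rw [← Scheme.Hom.comp_apply, hqm]; exact hp₀) (by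
      change c₂ (qm (U₂.ι q₀)) ∈ J
      rw [← Scheme.Hom.comp_apply qm, hqc, Scheme.Hom.comp_apply]
      refine ⟨(m ∣_ U) q₀, ?_, ?_⟩
      · change b ((m ∣_ U) q₀) = v
        rw [← Scheme.Hom.comp_apply, hU₂.w, Scheme.Hom.comp_apply]
        exact (congrArg κ hp₀).trans hκ
      · change f (a₀ ((m ∣_ U) q₀)) = _
        congr 1
        rw [← Scheme.Hom.comp_apply, ← Scheme.Hom.comp_apply]
        congr 1
        simp only [a₀, morphismRestrict_ι_assoc, hma]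
        rfl)
    haveI : IsFinite ((R j).ι ≫ qm ≫ πQ) := by rw [hqm]; infer_instance
    obtain ⟨Nj, hNj, hNj'⟩ := piece hf hg hP hQ (R j) (W i) (v := v₂) (fun p hp hpR ↦ by
      obtain ⟨q, hq, rfl⟩ := hpR
      obtain rfl : q = q₀ := by
        refine congrArg Subtype.val (hR's j |>.eq (a := ⟨q, hq⟩) (b := ⟨q₀, hq₀⟩) ?_ hp₀)
        change π₂ (U₂.ι q) = v₂
        rw [← hqm]
        exact hp
      exact hi) (hWs i)
    refine ⟨Nj, hNj, fun q hq ↦ ?_⟩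
    have hGe : ∀ q, G j q = MoreMor.fibreIntegral ((R j).ι ≫ qm ≫ πQ)
        (fun u ↦ wf (a₂ ((R j).ι u)) * wg (c₂ (qm ((R j).ι u)))) q := fun q ↦ by
      simp only [G, ← Scheme.Hom.comp_apply qm, hqc, hqm, Scheme.Hom.comp_apply]
    rw [hGe, hGe, hNj' q hq]
  choose Nj hNj hNj' using hpiece
  let N' : V₂.Opens := ⟨⋂ j, (Nj j : Set V₂), isOpen_iInter_of_finite fun j ↦ (Nj j).isOpen⟩
  refine ⟨V₂, κ, κ.isOpenMap, v₂, N ⊓ N', hκ, ⟨hN, Set.mem_iInter.mpr hNj⟩, fun q hq ↦ ?_⟩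
  have e : ∀ q ∈ N, MoreMor.fibreIntegral b
      (fun u ↦ (fun x ↦ wf x * wg (f x)) (pullback.fst (f ≫ g) γ (U.ι u))) (κ q) =
      ∑ j, G j q := fun q hq ↦ by
    rw [← fibreIntegral_restrict hm U
      (fun p ↦ (fun x ↦ wf x * wg (f x)) (pullback.fst (f ≫ g) γ p)) q]
    simp only [← Scheme.Hom.comp_apply m, hma]
    exact hsum q hq
  rw [← hκ, e q hq.1, e v₂ hN]
  exact Finset.sum_congr rfl fun j _ ↦ hNj' j q (Set.mem_iInter.mp hq.2 j)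

end WeightLib
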