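import Groth.Agent.WeightLib.Constr
import Groth.Agent.WeightLib.Comp
import Groth.Agent.WeightLib.EtaleQF

/-! Stratification of a quasi-finite morphism into constructible pieces with split fibres. -/

set_option autoImplicit false
set_option linter.style.haveILetI false
universe u

open AlgebraicGeometry CategoryTheory Limits IsLocalRing Topology TopologicalSpace

namespace WeightLib

variable {X Y : Scheme.{u}}

theorem exists_stratum (f : X ⟶ Y) [LocallyQuasiFinite f] [LocallyOfFiniteType f] [QuasiCompact f]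
    [QuasiSeparated f] (y : Y) :
    ∃ (V : Scheme.{u}) (_ : IsAffine V) (g : V ⟶ Y) (_ : Etale g) (v : V) (n : ℕ)
      (W : Fin n → (pullback f g).Opens) (C : Set V), g v = y ∧
      (∀ i, IsFinite ((W i).ι ≫ pullback.snd f g)) ∧
      (∀ i, GSingle ((W i).ι ≫ pullback.snd f g) v) ∧ IsConstructible C ∧ v ∈ C ∧
      ∀ q ∈ C, (∀ i, GSingle ((W i).ι ≫ pullback.snd f g) q) ∧
        ∀ p, pullback.snd f g p = q →
          (∃ i, p ∈ W i) ∧ ∀ i j, p ∈ W i → p ∈ W j → i = j := by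
  classical
  obtain ⟨V₀, g₀, hg₀, v₀, hv₀, hs₀⟩ :=
    exists_split f y (f ⁻¹' {y}) (f.finite_preimage_singleton y)
  obtain ⟨_, ⟨N₀, hN, rfl⟩, hvN, -⟩ := V₀.isBasis_affineOpens.exists_subset_of_mem_open
    (Set.mem_univ v₀) isOpen_univ
  let N : V₀.Opens := N₀
  haveI : IsAffine N.toScheme := hN
  obtain ⟨m, hm, hma⟩ := exists_isPullback_map (IsPullback.of_hasPullback f g₀)
    (IsPullback.of_hasPullback f (N.ι ≫ g₀)) N.ι rfl
  obtain ⟨n, W, hW, hWs, hWd, hWc⟩ := hs₀.baseChange hm (v' := ⟨v₀, hvN⟩) rfl hma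
  let π := pullback.snd f (N.ι ≫ g₀)
  haveI : LocallyOfFiniteType π := MorphismProperty.pullback_snd _ _ ‹_›
  haveI : QuasiCompact π := MorphismProperty.pullback_snd _ _ ‹_›
  haveI : QuasiSeparated π := MorphismProperty.pullback_snd _ _ ‹_›
  haveI : CompactSpace ↥(pullback f (N.ι ≫ g₀)) := QuasiCompact.compactSpace_of_compactSpace π
  haveI : QuasiSeparatedSpace ↥(pullback f (N.ι ≫ g₀)) :=
    quasiSeparatedSpace_of_quasiSeparated π
  haveI := hW
  haveI hWaff : ∀ i, IsAffine (W i).toScheme := fun i ↦ isAffine_of_isAffineHom ((W i).ι ≫ π)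
  choose Z hZ hvZ hZs using fun i ↦ exists_stratum_single ((W i).ι ≫ π) ⟨v₀, hvN⟩ (hWs i)
  let K : Set ↥(pullback f (N.ι ≫ g₀)) := (⋃ i, (W i : Set ↥(pullback f (N.ι ≫ g₀))))ᶜ
  have hK : IsClosed K := (isOpen_iUnion fun i ↦ (W i).isOpen).isClosed_compl
  obtain ⟨ZK, hZK, hvZK, hZKd⟩ := exists_constructible_disjoint_image π hK ⟨v₀, hvN⟩ (by
    rintro ⟨p, hp, hpv⟩
    refine hp (Set.mem_iUnion.mpr (hWc p hpv ?_))
    change f (pullback.fst f (N.ι ≫ g₀) p) = y
    rw [← Scheme.Hom.comp_apply, pullback.condition, ← hv₀, Scheme.Hom.comp_apply]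
    exact congrArg g₀ (congrArg Subtype.val hpv))
  have hov : ∀ x : {x : Fin n × Fin n // x.1 ≠ x.2}, ∃ Z : Set N.toScheme, IsConstructible Z ∧
      (⟨v₀, hvN⟩ : N.toScheme) ∈ Z ∧
      Disjoint Z (Set.range ((W x.1.1 ⊓ W x.1.2).ι ≫ π)) := by
    intro x
    have hc : ∀ i, IsCompact (W i : Set ↥(pullback f (N.ι ≫ g₀))) :=
      fun i ↦ isCompact_iff_compactSpace.mpr (inferInstanceAs (CompactSpace (W i).toScheme))
    haveI : CompactSpace (W x.1.1 ⊓ W x.1.2).toScheme :=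
      isCompact_iff_compactSpace.mp ((hc _).inter_of_isOpen (hc _) (W _).isOpen (W _).isOpen)
    refine exists_constructible_disjoint_range _ _ ?_
    rintro ⟨p, hp⟩
    exact x.2 (hWd p.1 _ _ hp p.2.1 p.2.2)
  choose Zo hZo hvZo hZod using hov
  refine ⟨N.toScheme, inferInstance, N.ι ≫ g₀, inferInstance, ⟨v₀, hvN⟩, n, W,
    (⋂ i, Z i) ∩ ZK ∩ ⋂ x, Zo x, ?_, hW, hWs, ((IsConstructible.iInter hZ).inter hZK).inter
      (IsConstructible.iInter hZo), ⟨⟨Set.mem_iInter.mpr hvZ, hvZK⟩, Set.mem_iInter.mpr hvZo⟩, ?_⟩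
  · rw [Scheme.Hom.comp_apply]
    exact hv₀
  rintro q ⟨⟨hqZ, hqK⟩, hqo⟩
  refine ⟨fun i ↦ hZs i q (Set.mem_iInter.mp hqZ i), fun p hp ↦ ⟨?_, fun i j hi hj ↦ ?_⟩⟩
  · by_contra h
    exact Set.disjoint_left.mp hZKd hqK
      ⟨p, fun h' ↦ h (Set.mem_iUnion.mp h'), hp⟩
  · by_contra hij
    exact Set.disjoint_left.mp (hZod ⟨(i, j), hij⟩) (Set.mem_iInter.mp hqo _)
      ⟨⟨p, hi, hj⟩, hp⟩

/-- Geometric points over the stratum are bounded by the number of pieces. -/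
theorem exists_constructible_card_le (f : X ⟶ Y) [LocallyQuasiFinite f] [LocallyOfFiniteType f]
    [QuasiCompact f] [QuasiSeparated f] [IsAffine Y] (y : Y) :
    ∃ (C : Set Y) (n : ℕ), IsConstructible C ∧ y ∈ C ∧ ∀ (Ω : Type u) [Field Ω] [IsAlgClosed Ω]
      (pv : Spec (.of Ω) ⟶ Y), img pv ∈ C →
        Finite (GPts f pv) ∧ Nat.card (GPts f pv) ≤ n := by
  obtain ⟨V, _, g, _, v, n, W, C, hv, hW, -, hC, hvC, h⟩ := exists_stratum f y
  refine ⟨g '' C, n, Scheme.Hom.isConstructible_image g hC, ⟨v, hvC, hv⟩,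
    fun Ω _ _ pv hpv ↦ ?_⟩
  obtain ⟨q, hq, hqy⟩ := hpv
  haveI := locallyQuasiFinite_of_etale g
  obtain ⟨⟨pv', rfl⟩, rfl⟩ := exists_gpt g q pv hqy
  let e := gptsPullbackEquiv (IsPullback.of_hasPullback f g) pv'
  have hmem : ∀ s : GPts (pullback.snd f g) pv', ∃ i, img s.1 ∈ W i :=
    fun s ↦ ((h _ hq).2 _ (img_mem_fibre _ s)).1
  choose idx hidx using hmem
  have hinj : Function.Injective idx := by
    intro s t hst
    have hr : ∀ r : GPts (pullback.snd f g) pv', idx r = idx s →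
        Set.range r.1 ⊆ Set.range (W (idx s)).ι := by
      intro r hr _ ⟨z, hz⟩
      obtain rfl : z = closedPoint _ := Subsingleton.elim _ _
      rw [Scheme.Opens.range_ι, ← hz, ← hr]
      exact hidx r
    haveI := (h _ hq).1 (idx s) Ω pv' rfl
    have := Subsingleton.elim
      (⟨IsOpenImmersion.lift (W (idx s)).ι s.1 (hr s rfl), by
        rw [← Category.assoc, IsOpenImmersion.lift_fac, s.2]⟩ :
          GPts ((W (idx s)).ι ≫ pullback.snd f g) pv')
      ⟨IsOpenImmersion.lift (W (idx s)).ι t.1 (hr t hst.symm), by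
        rw [← Category.assoc, IsOpenImmersion.lift_fac, t.2]⟩
    refine Subtype.ext ?_
    have h' := congrArg (fun r ↦ r.1) this
    simp only at h'
    rw [← IsOpenImmersion.lift_fac (W (idx s)).ι s.1 (hr s rfl), h', IsOpenImmersion.lift_fac]
  haveI : Finite (GPts (pullback.snd f g) pv') := Finite.of_injective idx hinj
  refine ⟨Finite.of_equiv _ e, ?_⟩
  rw [← Nat.card_congr e]
  exact (Nat.card_le_card_of_injective idx hinj).trans (by simp)

/-- A uniform bound on the number of geometric points in the fibres. -/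
theorem exists_gpts_bound (f : X ⟶ Y) [LocallyQuasiFinite f] [LocallyOfFiniteType f]
    [CompactSpace X] :
    ∃ d : ℕ, ∀ (Ω : Type u) [Field Ω] [IsAlgClosed Ω] (pv : Spec (.of Ω) ⟶ Y),
      Finite (GPts f pv) ∧ Nat.card (GPts f pv) ≤ d := by
  classical
  have hx : ∀ x : X, ∃ (U : X.Opens) (V : Y.Opens), x ∈ U ∧ IsAffineOpen U ∧ IsAffineOpen V ∧
      U ≤ f ⁻¹ᵁ V := by
    intro x
    obtain ⟨_, ⟨V, hV, rfl⟩, hxV, -⟩ := Y.isBasis_affineOpens.exists_subset_of_mem_open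
      (Set.mem_univ (f x)) isOpen_univ
    obtain ⟨_, ⟨U, hU, rfl⟩, hxU, hUV⟩ :=
      X.isBasis_affineOpens.exists_subset_of_mem_open (show x ∈ f ⁻¹ᵁ V from hxV) (f ⁻¹ᵁ V).2
    exact ⟨U, V, hxU, hU, hV, hUV⟩
  choose U V hxU hU hV hUV using hx
  obtain ⟨t, ht⟩ := isCompact_univ.elim_finite_subcover (fun x ↦ (U x : Set X))
    (fun x ↦ (U x).isOpen) fun x _ ↦ Set.mem_iUnion.mpr ⟨x, hxU x⟩
  have hpiece : ∀ x : X, ∃ d : ℕ, ∀ (Ω : Type u) [Field Ω] [IsAlgClosed Ω]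
      (pv : Spec (.of Ω) ⟶ Y), Finite (GPts ((U x).ι ≫ f) pv) ∧
        Nat.card (GPts ((U x).ι ≫ f) pv) ≤ d := by
    intro x
    haveI : IsAffine (U x).toScheme := hU x
    haveI : IsAffine (V x).toScheme := hV x
    let f' := f.resLE (V x) (U x) (hUV x)
    choose C n hC hyC hbd using exists_constructible_card_le f'
    obtain ⟨s, hs⟩ := exists_finset_cover C hC fun y ↦ ⟨y, hyC y⟩
    refine ⟨s.sup n, fun Ω _ _ pv ↦ ?_⟩
    rcases isEmpty_or_nonempty (GPts ((U x).ι ≫ f) pv) with he | ⟨⟨p₀, hp₀⟩⟩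
    · exact ⟨inferInstance, by simp⟩
    obtain ⟨y, hys, hy⟩ := hs (img (p₀ ≫ f'))
    obtain ⟨hfin, hle⟩ := hbd y Ω (p₀ ≫ f') hy
    have hf' : f' ≫ (V x).ι = (U x).ι ≫ f := Scheme.Hom.resLE_comp_ι ..
    let Φ : GPts ((U x).ι ≫ f) pv → GPts f' (p₀ ≫ f') := fun s ↦ ⟨s.1, by
      rw [← cancel_mono (V x).ι, Category.assoc, Category.assoc, hf', s.2, hp₀]⟩
    have hΦ : Function.Injective Φ := fun a b h ↦
      Subtype.ext (congrArg (fun r : GPts f' (p₀ ≫ f') ↦ r.1) h)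
    exact ⟨Finite.of_injective Φ hΦ,
      (Nat.card_le_card_of_injective Φ hΦ).trans (hle.trans (Finset.le_sup hys))⟩
  choose d hd using hpiece
  refine ⟨∑ x ∈ t, d x, fun Ω _ _ pv ↦ ?_⟩
  let Ψ : (Σ x : t, GPts ((U x.1).ι ≫ f) pv) → GPts f pv :=
    fun s ↦ ⟨s.2.1 ≫ (U s.1.1).ι, by rw [Category.assoc, s.2.2]⟩
  have hΨ : Function.Surjective Ψ := by
    intro p
    obtain ⟨x, hx, hpx⟩ := Set.mem_iUnion₂.mp (ht (Set.mem_univ (img p.1)))
    have hr : Set.range p.1 ⊆ Set.range (U x).ι := by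
      rintro _ ⟨z, rfl⟩
      obtain rfl : z = closedPoint _ := Subsingleton.elim _ _
      rw [Scheme.Opens.range_ι]
      exact hpx
    exact ⟨⟨⟨x, hx⟩, IsOpenImmersion.lift (U x).ι p.1 hr, by
      rw [← Category.assoc, IsOpenImmersion.lift_fac, p.2]⟩,
      Subtype.ext (IsOpenImmersion.lift_fac ..)⟩
  haveI : ∀ x : t, Finite (GPts ((U x.1).ι ≫ f) pv) := fun x ↦ (hd x.1 Ω pv).1
  haveI := Finite.of_surjective Ψ hΨ
  refine ⟨inferInstance, (Nat.card_le_card_of_surjective Ψ hΨ).trans ?_⟩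
  rw [Nat.card_sigma, ← Finset.sum_coe_sort t d]
  exact Finset.sum_le_sum fun x _ ↦ (hd x.1 Ω pv).2

theorem finite_fibre_of_compactSpace (f : X ⟶ Y) [LocallyQuasiFinite f] [LocallyOfFiniteType f]
    [CompactSpace X] (y : Y) : (f ⁻¹' {y}).Finite := by
  obtain ⟨d, hd⟩ := exists_gpts_bound f
  haveI := (hd _ (gpt y)).1
  refine (Set.finite_range (fun p : GPts f (gpt y) ↦ img p.1)).subset fun x hx ↦ ?_
  obtain ⟨p, hp⟩ := exists_gpt f x (gpt y) (Eq.trans hx (img_gpt y).symm)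
  exact ⟨p, hp⟩

/-- A weighting pulled back along an open immersion of the source and a monomorphism of the
target. -/
theorem isWeighting_of_open {f : X ⟶ Y} [LocallyQuasiFinite f] [LocallyOfFiniteType f] {w : X → ℤ}
    (hw : MoreMor.IsWeighting f w) {U V : Scheme.{u}} (j : U ⟶ X) [IsOpenImmersion j] (k : V ⟶ Y)
    [Mono k] (f' : U ⟶ V) (h : j ≫ f = f' ≫ k) :
    MoreMor.IsWeighting f' (fun u ↦ w (j u)) := by
  intro V' g _ O hO
  haveI := hO
  let a := pullback.fst f' g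
  let π := pullback.snd f' g
  have hA : IsPullback g (𝟙 V') (𝟙 V) g := IsPullback.of_vert_isIso ⟨by simp⟩
  have hB : IsPullback (𝟙 V) (𝟙 V) k k := IsKernelPair.id_of_mono k
  have hK : IsPullback g (𝟙 V') k (g ≫ k) := by simpa using hA.paste_horiz hB
  have hout : IsPullback a π (j ≫ f) (g ≫ k) := by
    rw [h]
    simpa using (IsPullback.of_hasPullback f' g).paste_vert hK
  let P₀ := pullback f (g ≫ k)
  let m : pullback f' g ⟶ P₀ := pullback.lift (a ≫ j) π (by rw [Category.assoc, hout.w])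
  have hm : IsPullback a m j (pullback.fst f (g ≫ k)) :=
    IsPullback.of_bot (by rw [pullback.lift_snd]; exact hout) (pullback.lift_fst ..).symm
      (IsPullback.of_hasPullback _ _)
  haveI : IsOpenImmersion m := MorphismProperty.of_isPullback hm ‹_›
  let e := m.isoImage O
  have he : e.hom ≫ (m ''ᵁ O).ι = O.ι ≫ m := Scheme.Hom.isoImage_hom_ι ..
  have hπ : O.ι ≫ π = e.hom ≫ (m ''ᵁ O).ι ≫ pullback.snd f (g ≫ k) := by
    rw [reassoc_of% he, pullback.lift_snd]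
  haveI : IsFinite ((m ''ᵁ O).ι ≫ pullback.snd f (g ≫ k)) := by
    rw [← MorphismProperty.cancel_left_of_respectsIso @IsFinite e.hom, ← hπ]
    exact hO
  have hlc := isLocallyConstant_fibreIntegral hw
    (IsPullback.of_hasPullback f (g ≫ k)) (m ''ᵁ O)
  have heq : MoreMor.fibreIntegral (O.ι ≫ π) (fun u ↦ w (j (a (O.ι u)))) =
      MoreMor.fibreIntegral ((m ''ᵁ O).ι ≫ pullback.snd f (g ≫ k))
        (fun u ↦ w (pullback.fst f (g ≫ k) ((m ''ᵁ O).ι u))) := by
    funext v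
    rw [← fibreIntegral_iso ((m ''ᵁ O).ι ≫ pullback.snd f (g ≫ k)) e
      (fun u ↦ w (pullback.fst f (g ≫ k) ((m ''ᵁ O).ι u))) v
      (Scheme.Hom.finite_preimage_singleton _ _)]
    simp only [← hπ]
    congr 1
    ext u
    rw [← Scheme.Hom.comp_apply e.hom, he, ← Scheme.Hom.comp_apply (O.ι ≫ m), Category.assoc,
      pullback.lift_fst]
    rfl
  exact heq ▸ hlc

/-- Between affine schemes a weighting is constant on a constructible neighbourhood of each
point. -/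
theorem exists_constructible_weight_eq [IsAffine X] [IsAffine Y] {f : X ⟶ Y} [LocallyQuasiFinite f]
    [LocallyOfFiniteType f] {w : X → ℤ} (hw : MoreMor.IsWeighting f w) (x : X) :
    ∃ C : Set X, IsConstructible C ∧ x ∈ C ∧ ∀ x' ∈ C, w x' = w x := by
  obtain ⟨V, _, g, _, v, n, W, C, hv, hW, hWs, hC, hvC, h⟩ := exists_stratum f (f x)
  haveI := hW
  obtain ⟨z, hz₁, hz₂⟩ := Scheme.Pullback.exists_preimage_pullback (f := f) (g := g) x v hv.symm
  obtain ⟨⟨i, hzi⟩, -⟩ := (h v hvC).2 z hz₂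
  obtain ⟨L, hvL, hL⟩ := IsLocallyConstant.exists_opens_eq (hw V g (W i) (hW i)) v
  obtain ⟨_, ⟨N, hN, rfl⟩, hvN, hNL⟩ := V.isBasis_affineOpens.exists_subset_of_mem_open hvL L.2
  haveI : IsAffine (W i).toScheme := isAffine_of_isAffineHom ((W i).ι ≫ pullback.snd f g)
  haveI : Etale (pullback.fst f g) := MorphismProperty.pullback_fst _ _ ‹_›
  have hS : IsConstructible (((W i).ι ≫ pullback.snd f g) ⁻¹' (C ∩ N)) :=
    Scheme.Hom.isConstructible_preimage _ (hC.inter (hN.isCompact.isConstructible N.2))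
  refine ⟨_, Scheme.Hom.isConstructible_image ((W i).ι ≫ pullback.fst f g) hS,
    ⟨⟨z, hzi⟩, by rw [Set.mem_preimage]; exact (show pullback.snd f g z ∈ C ∩ N from hz₂ ▸ ⟨hvC, hvN⟩),
      hz₁⟩, ?_⟩
  rintro _ ⟨u, ⟨huC, huN⟩, rfl⟩
  refine Eq.trans ?_ (congrArg w hz₁)
  have e1 := GSingle.fibreIntegral_eq ((h _ huC).1 i)
    (fun t ↦ w (pullback.fst f g ((W i).ι t))) (u := u) rfl
  have e2 := GSingle.fibreIntegral_eq (hWs i)
    (fun t ↦ w (pullback.fst f g ((W i).ι t))) (u := ⟨z, hzi⟩) hz₂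
  exact e1.symm.trans ((hL _ (hNL huN)).trans e2)

theorem fibreIntegral_top {P V : Scheme.{u}} (π : P ⟶ V) [LocallyQuasiFinite π] (w : P → ℤ) (v : V)
    (hfin : (π ⁻¹' {v}).Finite) :
    MoreMor.fibreIntegral ((⊤ : P.Opens).ι ≫ π) (fun u ↦ w ((⊤ : P.Opens).ι u)) v =
      MoreMor.fibreIntegral π w v := by
  have h := fibreIntegral_iso π P.topIso w v hfin
  exact h

/-- Over an affine base the fibre integral of a weighting is constant on a constructible
neighbourhood of each point. -/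
theorem exists_constructible_fibreIntegral_eq [IsAffine Y] {f : X ⟶ Y} [LocallyQuasiFinite f]
    [LocallyOfFiniteType f] [QuasiCompact f] [QuasiSeparated f] {w : X → ℤ}
    (hw : MoreMor.IsWeighting f w) (y : Y) :
    ∃ C : Set Y, IsConstructible C ∧ y ∈ C ∧
      ∀ y' ∈ C, MoreMor.fibreIntegral f w y' = MoreMor.fibreIntegral f w y := by
  classical
  obtain ⟨V, _, g, _, v, n, W, C, hv, hW, -, hC, hvC, h⟩ := exists_stratum f y
  haveI := hW
  let π := pullback.snd f g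
  haveI : LocallyQuasiFinite π := MorphismProperty.pullback_snd _ _ ‹_›
  haveI : QuasiCompact π := MorphismProperty.pullback_snd _ _ ‹_›
  let G : Fin n → V → ℤ := fun i ↦ MoreMor.fibreIntegral ((W i).ι ≫ π)
    (fun u ↦ w (pullback.fst f g ((W i).ι u)))
  choose L hvL hL using fun i ↦ IsLocallyConstant.exists_opens_eq (hw V g (W i) (hW i)) v
  let L' : V.Opens := ⟨⋂ i, (L i : Set V), isOpen_iInter_of_finite fun i ↦ (L i).2⟩
  obtain ⟨_, ⟨N, hN, rfl⟩, hvN, hNL⟩ :=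
    V.isBasis_affineOpens.exists_subset_of_mem_open (show v ∈ L' from Set.mem_iInter.mpr hvL) L'.2
  refine ⟨g '' (C ∩ N), Scheme.Hom.isConstructible_image g
    (hC.inter (hN.isCompact.isConstructible N.2)), ⟨v, ⟨hvC, hvN⟩, hv⟩, ?_⟩
  have hcalc : ∀ q ∈ C, MoreMor.fibreIntegral f w (g q) = ∑ i, G i q := fun q hq ↦ by
    rw [← fibreIntegral_baseChange (IsPullback.of_hasPullback f g) w q
      (f.finite_preimage_singleton _),
      ← fibreIntegral_top π _ q (π.finite_preimage_singleton q)]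
    exact fibreIntegral_eq_sum π ⊤ W (fun p ↦ w (pullback.fst f g p)) q
      ((π.finite_preimage_singleton q).preimage (f := fun u : (⊤ : (pullback f g).Opens).toScheme ↦
        ((⊤ : (pullback f g).Opens).ι u : ↥(pullback f g)))
        (⊤ : (pullback f g).Opens).ι.isOpenEmbedding.injective.injOn)
      (fun i ↦ Scheme.Hom.finite_preimage_singleton _ _)
      (fun p hp ↦ iff_of_true trivial ((h q hq).2 p hp).1)
      fun p i j hp ↦ ((h q hq).2 p hp).2 i j
  rintro _ ⟨q, ⟨hqC, hqN⟩, rfl⟩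
  rw [← hv, hcalc q hqC, hcalc v hvC]
  exact Finset.sum_congr rfl fun i _ ↦ hL i q (Set.mem_iInter.mp (hNL hqN) i)

end WeightLib
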