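import Groth.Agent.WeightLib.Weighting

/-! Inequalities between fibre integrals of nonnegative functions. -/

set_option autoImplicit false
set_option linter.style.haveILetI false
universe u

open AlgebraicGeometry CategoryTheory Limits IsLocalRing

namespace WeightLib

variable {U P V : Scheme.{u}}

theorem le_fibreIntegral (π : U ⟶ V) [LocallyQuasiFinite π] (w : U → ℤ) (hw : ∀ u, 0 ≤ w u) (u : U)
    (hfin : (π ⁻¹' {π u}).Finite) : w u ≤ MoreMor.fibreIntegral π w (π u) := by
  classical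
  haveI := finite_gpts π (gpt (π u)) (by rw [img_gpt]; exact hfin)
  letI := Fintype.ofFinite (GPts π (gpt (π u)))
  obtain ⟨p, hp⟩ := exists_gpt π u (gpt (π u)) (img_gpt _).symm
  rw [fibreIntegral_eq π w _ hfin _ (img_gpt _), finsum_eq_sum_of_fintype]
  refine le_of_eq_of_le (congrArg w hp.symm) ?_
  exact Finset.single_le_sum (f := fun q : GPts π (gpt (π u)) ↦ w (img q.1)) (fun q _ ↦ hw _)
    (Finset.mem_univ p)

theorem exists_of_fibreIntegral_ne_zero (π : U ⟶ V) [LocallyQuasiFinite π] (w : U → ℤ) {v : V}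
    (h : MoreMor.fibreIntegral π w v ≠ 0) : ∃ u, π u = v := by
  by_contra hne
  haveI : IsEmpty {u : U // π u = v} := ⟨fun u ↦ hne ⟨u.1, u.2⟩⟩
  exact h (by rw [MoreMor.fibreIntegral, finsum_of_isEmpty])

theorem fibreIntegral_nonneg (π : U ⟶ V) (w : U → ℤ) (hw : ∀ u, 0 ≤ w u) (v : V) :
    0 ≤ MoreMor.fibreIntegral π w v :=
  finsum_nonneg fun _ ↦ mul_nonneg (hw _) (Int.natCast_nonneg _)

variable (π : P ⟶ V) [LocallyQuasiFinite π] (O : P.Opens) (w : P → ℤ) (v : V)

/-- The fibre integral over an open, as a sum over the geometric points lying in it. -/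
theorem fibreIntegral_opens_le (hw : ∀ p, 0 ≤ w p) (hfin : (π ⁻¹' {v}).Finite) :
    MoreMor.fibreIntegral (O.ι ≫ π) (fun u ↦ w (O.ι u)) v ≤ MoreMor.fibreIntegral π w v ∧
    ((∀ p, π p = v → p ∈ O) →
      MoreMor.fibreIntegral (O.ι ≫ π) (fun u ↦ w (O.ι u)) v = MoreMor.fibreIntegral π w v) ∧
    ∀ p, π p = v → p ∉ O →
      MoreMor.fibreIntegral (O.ι ≫ π) (fun u ↦ w (O.ι u)) v + w p ≤
        MoreMor.fibreIntegral π w v := by
  classical
  have hfin' : ((O.ι ≫ π) ⁻¹' {v}).Finite := by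
    have := hfin.preimage (f := fun u : O.toScheme ↦ (O.ι u : P)) O.ι.isOpenEmbedding.injective.injOn
    exact this
  haveI := finite_gpts π (gpt v) (by rw [img_gpt]; exact hfin)
  haveI := finite_gpts (O.ι ≫ π) (gpt v) (by rw [img_gpt]; exact hfin')
  letI := Fintype.ofFinite (GPts π (gpt v))
  letI := Fintype.ofFinite (GPts (O.ι ≫ π) (gpt v))
  let Φ : GPts (O.ι ≫ π) (gpt v) → GPts π (gpt v) :=
    fun q ↦ ⟨q.1 ≫ O.ι, by rw [Category.assoc, q.2]⟩
  have hΦ : Function.Injective Φ := fun a b h ↦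
    Subtype.ext ((cancel_mono O.ι).mp congr(($h).1))
  rw [fibreIntegral_eq (O.ι ≫ π) _ v hfin' _ (img_gpt _), fibreIntegral_eq π w v hfin _ (img_gpt _),
    finsum_eq_sum_of_fintype, finsum_eq_sum_of_fintype]
  have hs : ∑ q : GPts (O.ι ≫ π) (gpt v), w (O.ι (img q.1)) =
      ∑ q ∈ Finset.univ.image Φ, w (img q.1) := by
    rw [Finset.sum_image fun a _ b _ h ↦ hΦ h]
    rfl
  rw [hs]
  refine ⟨Finset.sum_le_univ_sum_of_nonneg fun q ↦ hw _, fun h ↦ ?_, fun p hp hpO ↦ ?_⟩
  · rw [Finset.image_univ_of_surjective]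
    intro q
    have hq : π (img q.1) = v := (img_mem_fibre π q).trans (img_gpt v)
    have hr : Set.range q.1 ⊆ Set.range O.ι := by
      rintro _ ⟨z, rfl⟩
      obtain rfl : z = closedPoint _ := Subsingleton.elim _ _
      rw [Scheme.Opens.range_ι]
      exact h _ hq
    exact ⟨⟨IsOpenImmersion.lift O.ι q.1 hr, by
      rw [← Category.assoc, IsOpenImmersion.lift_fac, q.2]⟩,
      Subtype.ext (IsOpenImmersion.lift_fac ..)⟩
  · obtain ⟨q, hq⟩ := exists_gpt π p (gpt v) (by rw [img_gpt, hp])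
    have hqn : q ∉ Finset.univ.image Φ := by
      simp only [Finset.mem_image, Finset.mem_univ, true_and, not_exists]
      intro r hr
      apply hpO
      rw [← hq, ← hr]
      exact (img r.1).2
    rw [← hq, add_comm]
    refine le_of_eq_of_le (Finset.sum_insert (f := fun q : GPts π (gpt v) ↦ w (img q.1)) hqn).symm ?_
    exact Finset.sum_le_univ_sum_of_nonneg (f := fun q : GPts π (gpt v) ↦ w (img q.1)) fun q ↦ hw _

end WeightLib
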