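import Groth.Agent.WeightLib.Pts
import Mathlib.AlgebraicGeometry.Morphisms.Finite
import Mathlib.AlgebraicGeometry.Morphisms.Affine

/-! Iterated fibre products, described through their field valued points. -/

set_option autoImplicit false
universe u

open AlgebraicGeometry CategoryTheory Limits IsLocalRing

namespace WeightLib

variable {X Y : Scheme.{u}}

/-- The `n+1`-fold fibre product of an affine morphism from an affine scheme. -/
theorem exists_tuples (f : X ⟶ Y) [IsAffine X] [IsAffineHom f] (n : ℕ) :
    ∃ (P : Scheme.{u}) (π : P ⟶ Y) (pr : Fin (n + 1) → (P ⟶ X)), IsAffine P ∧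
      (∀ i, pr i ≫ f = π) ∧
      (∀ (Ω : CommRingCat.{u}) (pv : Spec Ω ⟶ Y) (t : Fin (n + 1) → GPts f pv),
        ∃ γ : Spec Ω ⟶ P, γ ≫ π = pv ∧ ∀ i, γ ≫ pr i = (t i).1) ∧
      ∀ (V : Scheme.{u}) (g : V ⟶ Y), IsFinite (pullback.snd f g) →
        IsFinite (pullback.snd π g) := by
  induction n with
  | zero =>
    refine ⟨X, f, fun _ ↦ 𝟙 X, inferInstance, fun i ↦ Category.id_comp f,
      fun Ω pv t ↦ ⟨(t 0).1, (t 0).2, fun i ↦ ?_⟩, fun V g h ↦ h⟩
    rw [Category.comp_id, Fin.fin_one_eq_zero i]
  | succ n ih =>
    obtain ⟨P, π, pr, hP, hpr, hlift, hfin⟩ := ih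
    let P' := pullback π f
    refine ⟨P', pullback.snd π f ≫ f, Fin.cons (pullback.snd π f)
      (fun i ↦ pullback.fst π f ≫ pr i), inferInstance, fun i ↦ ?_, fun Ω pv t ↦ ?_,
      fun V g hg ↦ ?_⟩
    · refine Fin.cases ?_ (fun j ↦ ?_) i
      · rw [Fin.cons_zero]
      · rw [Fin.cons_succ, Category.assoc, hpr, pullback.condition]
    · obtain ⟨γ, hγ, hγi⟩ := hlift Ω pv fun i ↦ t i.succ
      refine ⟨pullback.lift γ (t 0).1 (hγ.trans (t 0).2.symm), ?_, fun i ↦ ?_⟩
      · rw [pullback.lift_snd_assoc, (t 0).2]
      · refine Fin.cases ?_ (fun j ↦ ?_) i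
        · rw [Fin.cons_zero, pullback.lift_snd]
        · rw [Fin.cons_succ, pullback.lift_fst_assoc, hγi]
    · have h₁ : IsFinite (pullback.snd π g) := hfin V g hg
      -- the new product over `V` is the fibre product of the old one and `X` over `V`
      have hA := (IsPullback.of_hasPullback π f)
      have hB := IsPullback.of_hasPullback (pullback.snd π f ≫ f) g
      let m : pullback (pullback.snd π f ≫ f) g ⟶ pullback π g :=
        pullback.lift (pullback.fst _ _ ≫ pullback.fst π f) (pullback.snd _ _) (by
          rw [Category.assoc, pullback.condition (f := π) (g := f), pullback.condition])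
      have hm : IsFinite m := by
        let q : pullback (pullback.snd π f ≫ f) g ⟶ pullback f g :=
          pullback.lift (pullback.fst _ _ ≫ pullback.snd π f) (pullback.snd _ _) (by
            rw [Category.assoc, pullback.condition])
        have h4 : IsPullback (pullback.fst (pullback.snd π f ≫ f) g) q (pullback.snd π f)
            (pullback.fst f g) :=
          IsPullback.of_bot (v₂₁ := pullback.snd f g)
            (by rw [show q ≫ pullback.snd f g = _ from pullback.lift_snd ..]; exact hB)
            (pullback.lift_fst ..).symm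
            (IsPullback.of_hasPullback f g)
        have h3 := h4.paste_horiz hA
        have hsq : IsPullback m q (pullback.snd π g) (pullback.snd f g) := by
          refine IsPullback.of_right (h₁₂ := pullback.fst π g) (v₁₃ := π) (h₂₂ := g) ?_ ?_
            (IsPullback.of_hasPullback π g)
          · convert h3 using 1
            exacts [pullback.lift_fst .., pullback.condition.symm]
          · exact (pullback.lift_snd ..).trans (pullback.lift_snd ..).symm
        exact MorphismProperty.of_isPullback hsq.flip hg
      have : IsFinite (m ≫ pullback.snd π g) := inferInstance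
      rwa [show m ≫ pullback.snd π g = _ from pullback.lift_snd ..] at this

end WeightLib
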