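import Mathlib.Topology.Semicontinuity.Basic
import Groth.Agent.WeightLib.Tuple
import Groth.Agent.WeightLib.Separated
import Groth.Agent.WeightLib.Stratum
import Groth.Agent.ChevLib.Main

/-! The locus where the fibre integral of a positive weighting is maximal is affine. -/

set_option autoImplicit false
set_option linter.style.haveILetI false
universe u

open AlgebraicGeometry CategoryTheory Limits IsLocalRing

namespace WeightLib

variable {P X Y : Scheme.{u}}

theorem isWeighting_baseChange {f : X ⟶ Y} [LocallyQuasiFinite f] [LocallyOfFiniteType f]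
    {w : X → ℤ} (hw : MoreMor.IsWeighting f w) {X' Y' : Scheme.{u}} {a : X' ⟶ X} {f' : X' ⟶ Y'}
    {γ : Y' ⟶ Y} (hc : IsPullback a f' f γ) : MoreMor.IsWeighting f' (fun x ↦ w (a x)) :=
  fun _ g _ U hU ↦
    haveI := hU
    isLocallyConstant_fibreIntegral hw ((IsPullback.of_hasPullback f' g).paste_horiz hc) U

/-- Field extensions are epimorphisms for morphisms from spectra of fields. -/
theorem eq_of_specMap_comp_eq {k Ω : Type u} [Field k] [Field Ω] (e : CommRingCat.of k ⟶ .of Ω)
    (a b : Spec (.of k) ⟶ X) (h : Spec.map e ≫ a = Spec.map e ≫ b) : a = b := by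
  have himg : img a = img b := by
    have h1 := congrArg (fun c : Spec (.of Ω) ⟶ X ↦ c (closedPoint Ω)) h
    simp only [Scheme.Hom.comp_apply] at h1
    rw [Subsingleton.elim (α := PrimeSpectrum k) (Spec.map e (closedPoint Ω)) (closedPoint k)] at h1
    exact h1
  obtain ⟨ea, hea⟩ := exists_eq_specMap_fromSpecResidueField a rfl
  obtain ⟨eb, heb⟩ := exists_eq_specMap_fromSpecResidueField b himg.symm
  rw [← hea, ← heb] at h ⊢
  rw [← Spec.map_comp_assoc, ← Spec.map_comp_assoc, cancel_mono, Spec.map_inj] at h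
  congr 2
  ext r
  exact e.hom.injective congr($(h).hom r)

/-- Equality of two projections at a point can be tested on any field valued point over it. -/
theorem comp_eq_iff {Ω : Type u} [Field Ω] (γ : Spec (.of Ω) ⟶ P) (a b : P ⟶ X) :
    γ ≫ a = γ ≫ b ↔
      P.fromSpecResidueField (img γ) ≫ a = P.fromSpecResidueField (img γ) ≫ b := by
  obtain ⟨e, he⟩ := exists_eq_specMap_fromSpecResidueField γ rfl
  constructor
  · intro h
    rw [← he, Category.assoc, Category.assoc] at h
    exact eq_of_specMap_comp_eq (k := P.residueField (img γ)) e _ _ h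
  · intro h
    rw [← he, Category.assoc, Category.assoc, h]

/-- The tuples in which some point occurs more often than its weight. -/
def badTuples {n : ℕ} (pr : Fin n → (P ⟶ X)) (w : X → ℤ) : Set P :=
  {p | ∃ j, w (pr j p) <
    (Nat.card {i // P.fromSpecResidueField p ≫ pr i = P.fromSpecResidueField p ≫ pr j} : ℤ)}

theorem notMem_badTuples_iff {n : ℕ} (pr : Fin n → (P ⟶ X)) (w : X → ℤ) {Ω : Type u} [Field Ω]
    (γ : Spec (.of Ω) ⟶ P) :
    img γ ∉ badTuples pr w ↔
      ∀ j, (Nat.card {i // γ ≫ pr i = γ ≫ pr j} : ℤ) ≤ w (img (γ ≫ pr j)) := by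
  simp only [badTuples, Set.mem_ofPred_eq, not_exists, not_lt, comp_eq_iff γ, img_comp]

variable (f : X ⟶ Y) [LocallyQuasiFinite f] [LocallyOfFiniteType f]

theorem isOpen_badTuples (hfin : ∀ y : Y, (f ⁻¹' {y}).Finite) {w : X → ℤ}
    (hw : MoreMor.IsWeighting f w) (hpos : ∀ x, 0 < w x) {n : ℕ} (π : P ⟶ Y)
    (pr : Fin n → (P ⟶ X)) (hpr : ∀ i, pr i ≫ f = π) : IsOpen (badTuples pr w) := by
  classical
  rw [isOpen_iff_forall_mem_open]
  rintro p ⟨j, hj⟩
  obtain ⟨V, g, _, v, hv, m, W, hW, hsing, -, hcov⟩ :=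
    exists_split f (π p) (f ⁻¹' {π p}) (hfin _)
  obtain ⟨p', hp'₁, hp'₂⟩ :=
    Scheme.Pullback.exists_preimage_pullback (f := π) (g := g) p v hv.symm
  let PV := pullback π g
  let μ : Fin n → (PV ⟶ pullback f g) := fun i ↦
    pullback.lift (pullback.fst π g ≫ pr i) (pullback.snd π g)
      (by rw [Category.assoc, hpr, pullback.condition])
  have hμ₁ : ∀ i, μ i ≫ pullback.fst f g = pullback.fst π g ≫ pr i := fun i ↦ pullback.lift_fst ..
  have hμ₂ : ∀ i, μ i ≫ pullback.snd f g = pullback.snd π g := fun i ↦ pullback.lift_snd ..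
  let γ := gpt p' ≫ pullback.fst π g
  have hγ : img γ = p := by rw [img_comp, img_gpt, hp'₁]
  let E := {i : Fin n // γ ≫ pr i = γ ≫ pr j}
  have hE : w (pr j p) < (Nat.card E : ℤ) := by
    refine hj.trans_eq ?_
    subst hγ
    simp only [E, comp_eq_iff γ]
  have hμE : ∀ i : E, gpt p' ≫ μ i.1 = gpt p' ≫ μ j := by
    intro i
    apply pullback.hom_ext
    · simp only [Category.assoc, hμ₁]
      simpa only [γ, Category.assoc] using i.2
    · simp only [Category.assoc, hμ₂]
  have hμv : pullback.snd f g (μ j p') = v := by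
    rw [← Scheme.Hom.comp_apply, hμ₂, hp'₂]
  have hμa : pullback.fst f g (μ j p') = pr j p := by
    rw [← Scheme.Hom.comp_apply, hμ₁, Scheme.Hom.comp_apply, hp'₁]
  obtain ⟨k, hk⟩ := hcov (μ j p') hμv (by
    show f (pullback.fst f g (μ j p')) = π p
    rw [hμa, ← Scheme.Hom.comp_apply, hpr])
  haveI := hW k
  have hwk : MoreMor.fibreIntegral ((W k).ι ≫ pullback.snd f g)
      (fun u ↦ w (pullback.fst f g ((W k).ι u))) v = w (pr j p) := by
    rw [(hsing k).fibreIntegral_eq _ (u := ⟨μ j p', hk⟩) hμv]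
    exact congrArg w hμa
  obtain ⟨N, hvN, hN⟩ := IsLocallyConstant.exists_opens_eq (hw V g (W k) (hW k)) v
  let O : PV.Opens := pullback.snd π g ⁻¹ᵁ N ⊓
    ⟨⋂ i : E, (μ i.1 ⁻¹ᵁ W k : Set PV), isOpen_iInter_of_finite fun i ↦ (μ i.1 ⁻¹ᵁ W k).isOpen⟩
  have hp'O : p' ∈ O := by
    refine ⟨?_, Set.mem_iInter.mpr fun i ↦ ?_⟩
    · show pullback.snd π g p' ∈ N
      rw [hp'₂]; exact hvN
    · show μ i.1 p' ∈ W k
      have : μ i.1 p' = μ j p' := by
        have := congrArg img (hμE i)
        rwa [img_comp, img_comp, img_gpt] at this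
      rw [this]; exact hk
  refine ⟨pullback.fst π g '' O, ?_, (pullback.fst π g).isOpenMap _ O.isOpen, p', hp'O, hp'₁⟩
  rintro _ ⟨q, ⟨hqN, hqW⟩, rfl⟩
  by_contra hgood
  let δ := gpt q
  have hδ : img (δ ≫ pullback.fst π g) = pullback.fst π g q := by rw [img_comp, img_gpt]
  rw [← hδ, notMem_badTuples_iff] at hgood
  let qv := δ ≫ pullback.snd π g
  have hqv : img qv = pullback.snd π g q := by rw [img_comp, img_gpt]
  have hrange : ∀ i : E, Set.range (δ ≫ μ i.1) ⊆ Set.range (W k).ι := by
    rintro i _ ⟨z, rfl⟩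
    obtain rfl : z = closedPoint _ := Subsingleton.elim _ _
    rw [Scheme.Opens.range_ι]
    show img (δ ≫ μ i.1) ∈ W k
    rw [img_comp, img_gpt]
    exact Set.mem_iInter.mp hqW i
  let Φ : E → GPts ((W k).ι ≫ pullback.snd f g) qv := fun i ↦
    ⟨IsOpenImmersion.lift (W k).ι (δ ≫ μ i.1) (hrange i), by
      rw [← Category.assoc, IsOpenImmersion.lift_fac, Category.assoc, hμ₂]⟩
  haveI := finite_gpts ((W k).ι ≫ pullback.snd f g) qv (Scheme.Hom.finite_preimage_singleton _ _)
  letI := Fintype.ofFinite (GPts ((W k).ι ≫ pullback.snd f g) qv)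
  have hle : ∀ t : GPts ((W k).ι ≫ pullback.snd f g) qv,
      ((Finset.univ.filter fun i : E ↦ Φ i = t).card : ℤ) ≤
        w (pullback.fst f g ((W k).ι (img t.1))) := by
    intro t
    by_cases h : ∃ i, Φ i = t
    · obtain ⟨i, rfl⟩ := h
      have himg : pullback.fst f g ((W k).ι (img (Φ i).1)) =
          img ((δ ≫ pullback.fst π g) ≫ pr i.1) := by
        simp only [Φ, ← img_comp, IsOpenImmersion.lift_fac, Category.assoc, hμ₁]
      rw [himg]
      refine le_trans (Int.ofNat_le.mpr ?_) (hgood i.1)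
      rw [Nat.card_eq_fintype_card, Fintype.card_subtype]
      refine Finset.card_le_card_of_injOn Subtype.val (fun a ha ↦ ?_)
        (Subtype.val_injective.injOn)
      have ha' : Φ a = Φ i := (Finset.mem_filter.mp ha).2
      have h2 : δ ≫ μ a.1 = δ ≫ μ i.1 := by
        have := congrArg (fun r : GPts ((W k).ι ≫ pullback.snd f g) qv ↦ r.1 ≫ (W k).ι) ha'
        simpa [Φ, IsOpenImmersion.lift_fac] using this
      refine Finset.mem_filter.mpr ⟨Finset.mem_univ _, ?_⟩
      have h3 := congrArg (· ≫ pullback.fst f g) h2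
      simp only [Category.assoc, hμ₁] at h3
      simpa only [Category.assoc] using h3
    · rw [Finset.filter_eq_empty_iff.mpr fun i _ hi ↦ h ⟨i, hi⟩, Finset.card_empty]
      exact (hpos _).le
  have h1 := hN (pullback.snd π g q) hqN
  rw [hwk, fibreIntegral_eq _ _ _ (Scheme.Hom.finite_preimage_singleton _ _) qv hqv,
    finsum_eq_sum_of_fintype] at h1
  have h2 : (Nat.card E : ℤ) ≤ w (pr j p) := by
    rw [← h1, Nat.card_eq_fintype_card, ← Finset.card_univ,
      Finset.card_eq_sum_card_fiberwise (f := Φ) (t := Finset.univ) (fun _ _ ↦ Finset.mem_univ _),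
      Nat.cast_sum]
    exact Finset.sum_le_sum fun t _ ↦ hle t
  omega

/-- The locus where the fibre integral of a positive weighting is maximal is affine. -/
theorem isAffineOpen_max_locus [QuasiCompact f] [IsAffine X] [Y.IsSeparated] {w : X → ℤ}
    (hw : MoreMor.IsWeighting f w) (hpos : ∀ x, 0 < w x) (d : ℕ)
    (hmax : ∀ y, MoreMor.fibreIntegral f w y ≤ (d + 1 : ℕ))
    (U : Y.Opens) (hU : ∀ y, y ∈ U ↔ MoreMor.fibreIntegral f w y = (d + 1 : ℕ)) :
    IsAffineOpen U := by
  classical
  haveI : IsAffineHom f := ChevLib.isAffineHom_of_isSeparated f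
  have hfin : ∀ y : Y, (f ⁻¹' {y}).Finite := finite_fibre_of_compactSpace f
  obtain ⟨P, π, pr, _, hpr, hlift, hfinP⟩ := exists_tuples f d
  -- the restriction of `f` to the maximal locus is finite
  have hc := IsPullback.of_hasPullback f U.ι
  haveI : LocallyQuasiFinite (pullback.snd f U.ι) :=
    MorphismProperty.pullback_snd _ _ ‹_›
  have hfinU : IsFinite (pullback.snd f U.ι) := by
    refine isFinite_of_fibreIntegral_const
      (fun y ↦ finite_preimage_baseChange hc y (hfin _)) (isWeighting_baseChange hw hc)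
      (fun x ↦ hpos _) (d + 1 : ℕ) fun y ↦ ?_
    rw [fibreIntegral_baseChange hc w y (hfin _)]
    exact (hU _).mp y.2
  haveI := hfinP _ _ hfinU
  -- the closed set of admissible tuples
  let Zc : TopologicalSpace.Closeds P :=
    ⟨(badTuples pr w)ᶜ, (isOpen_badTuples f hfin hw hpos π pr hpr).isClosed_compl⟩
  let I := Scheme.IdealSheafData.vanishingIdeal Zc
  let Z := I.subscheme
  have hrange : Set.range I.subschemeι = (badTuples pr w)ᶜ := by
    rw [Scheme.IdealSheafData.range_subschemeι]
    simp [I, Zc]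
  haveI : IsAffine Z := isAffine_of_isAffineHom I.subschemeι
  have hcount : ∀ q : P, q ∉ badTuples pr w → π q ∈ U := by
    intro q hq
    rw [hU]
    refine le_antisymm (hmax _) ?_
    rw [← img_gpt q, notMem_badTuples_iff] at hq
    let pv := gpt q ≫ π
    let t : Fin (d + 1) → GPts f pv := fun i ↦ ⟨gpt q ≫ pr i, by rw [Category.assoc, hpr]⟩
    haveI := finite_gpts f pv (hfin _)
    letI := Fintype.ofFinite (GPts f pv)
    rw [fibreIntegral_eq f w _ (hfin _) pv (by rw [img_comp, img_gpt]), finsum_eq_sum_of_fintype]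
    calc ((d + 1 : ℕ) : ℤ) = ∑ b : GPts f pv, ((Finset.univ.filter fun i ↦ t i = b).card : ℤ) := by
          rw [← Nat.cast_sum, ← Finset.card_eq_sum_card_fiberwise
            (fun _ _ ↦ Finset.mem_univ _), Finset.card_univ, Fintype.card_fin]
      _ ≤ _ := by
          refine Finset.sum_le_sum fun b _ ↦ ?_
          by_cases h : ∃ i, t i = b
          · obtain ⟨i, rfl⟩ := h
            refine le_trans (Int.ofNat_le.mpr ?_) (hq i)
            rw [Nat.card_eq_fintype_card, Fintype.card_subtype]
            refine Finset.card_le_card fun a ha ↦ ?_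
            simp only [Finset.mem_filter, Finset.mem_univ, true_and] at ha ⊢
            exact congrArg Subtype.val ha
          · rw [Finset.filter_eq_empty_iff.mpr fun i _ hi ↦ h ⟨i, hi⟩, Finset.card_empty]
            exact (hpos _).le
  have hsub : Set.range (I.subschemeι ≫ π) ⊆ Set.range U.ι := by
    rintro _ ⟨z, rfl⟩
    rw [Scheme.Opens.range_ι, Scheme.Hom.comp_apply]
    refine hcount _ ?_
    have : I.subschemeι z ∈ Set.range I.subschemeι := ⟨z, rfl⟩
    rwa [hrange] at this
  let φ : Z ⟶ U.toScheme := IsOpenImmersion.lift U.ι (I.subschemeι ≫ π) hsub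
  have hφ : φ ≫ U.ι = I.subschemeι ≫ π := IsOpenImmersion.lift_fac ..
  haveI : UniversallyClosed φ := by
    let l : Z ⟶ pullback π U.ι := pullback.lift I.subschemeι φ hφ.symm
    have h1 : l ≫ pullback.fst π U.ι = I.subschemeι := pullback.lift_fst ..
    haveI : IsClosedImmersion (l ≫ pullback.fst π U.ι) := by rw [h1]; infer_instance
    haveI : IsClosedImmersion l := IsClosedImmersion.of_comp l (pullback.fst π U.ι)
    have h2 : l ≫ pullback.snd π U.ι = φ := pullback.lift_snd ..
    rw [← h2]
    infer_instance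
  haveI : Surjective φ := ⟨fun y ↦ by
    let pv := gpt y.1
    haveI := finite_gpts f pv (hfin _)
    letI := Fintype.ofFinite (GPts f pv)
    have hsum : ∑ b : GPts f pv, w (img b.1) = (d + 1 : ℕ) := by
      rw [← finsum_eq_sum_of_fintype, ← fibreIntegral_eq f w y.1 (hfin _) pv (img_gpt _)]
      exact (hU _).mp y.2
    have hcard : Fintype.card (Σ b : GPts f pv, Fin (w (img b.1)).toNat) = d + 1 := by
      rw [Fintype.card_sigma]
      simp only [Fintype.card_fin]
      apply Int.ofNat_inj.mp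
      rw [Nat.cast_sum, ← hsum]
      exact Finset.sum_congr rfl fun b _ ↦ Int.toNat_of_nonneg (hpos _).le
    let e := (Fintype.equivFinOfCardEq hcard).symm
    obtain ⟨γ, hγ, hγi⟩ := hlift _ pv fun i ↦ (e i).1
    have hgood : img γ ∉ badTuples pr w := by
      rw [notMem_badTuples_iff]
      intro j
      rw [hγi j]
      refine le_trans (Int.ofNat_le.mpr ?_) (Int.toNat_of_nonneg (hpos _).le).le
      have hinj : Function.Injective (fun i : {i // γ ≫ pr i = γ ≫ pr j} ↦
          (⟨(e i.1), Subtype.ext (by rw [← hγi, i.2, hγi])⟩ :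
            {s : Σ b : GPts f pv, Fin (w (img b.1)).toNat // s.1 = (e j).1})) := fun a b h ↦
        Subtype.ext (e.injective congr(($h).1))
      rw [← hγi j]
      refine (Nat.card_le_card_of_injective _ hinj).trans (le_of_eq ?_)
      rw [Nat.card_congr (Equiv.sigmaSubtype (e j).1), Nat.card_fin, hγi j]
    obtain ⟨z, hz⟩ : img γ ∈ Set.range I.subschemeι := by rw [hrange]; exact hgood
    refine ⟨z, U.ι.isOpenEmbedding.injective ?_⟩
    rw [← Scheme.Hom.comp_apply, hφ, Scheme.Hom.comp_apply, hz, ← img_comp, hγ, img_gpt]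
    rfl⟩
  exact ChevLib.isAffine_of_surjective_universallyClosed φ

end WeightLib
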