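import Mathlib.Topology.Semicontinuity.Basic
import Groth.Agent.WeightLib.MaxLocus

/-! Strata of the fibre integral of a positive weighting. -/

set_option autoImplicit false
set_option linter.style.haveILetI false
universe u

open AlgebraicGeometry CategoryTheory Limits

namespace WeightLib

variable {X Y : Scheme.{u}} (f : X ⟶ Y) [LocallyQuasiFinite f] [LocallyOfFiniteType f]
  [QuasiCompact f] [IsAffine X] [Y.IsSeparated] {w : X → ℤ}

include f in
theorem isClosed_fibreIntegral_le (hw : MoreMor.IsWeighting f w) (hpos : ∀ x, 0 < w x) (e : ℤ) :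
    IsClosed {y | MoreMor.fibreIntegral f w y ≤ e} := by
  haveI : IsAffineHom f := ChevLib.isAffineHom_of_isSeparated f
  exact LowerSemicontinuous.isClosed_preimage
    (lowerSemicontinuous_fibreIntegral (finite_fibre_of_compactSpace f) hw hpos) e

omit [QuasiCompact f] [Y.IsSeparated] in
theorem one_le_fibreIntegral [Surjective f] (hpos : ∀ x, 0 < w x) (y : Y) :
    1 ≤ MoreMor.fibreIntegral f w y := by
  obtain ⟨x, rfl⟩ := f.surjective y
  exact le_trans (hpos x) (le_fibreIntegral f w (fun u ↦ (hpos u).le) x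
    (finite_fibre_of_compactSpace f _))

include f in
theorem exists_affine_stratum [Surjective f] (hw : MoreMor.IsWeighting f w) (hpos : ∀ x, 0 < w x)
    (e : ℤ) :
    ∃ (Z : Scheme.{u}) (ι : Z ⟶ Y), IsImmersion ι ∧ IsAffine Z ∧ IsAffineHom ι ∧
      Set.range ι = {y | MoreMor.fibreIntegral f w y = e} := by
  rcases lt_or_ge 0 e with he | he
  swap
  · refine ⟨∅, Scheme.emptyTo Y, inferInstance, inferInstance, inferInstance, ?_⟩
    rw [Set.range_eq_empty]
    refine (Set.eq_empty_of_forall_notMem fun y (hy : _ = e) ↦ ?_).symm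
    have := one_le_fibreIntegral f hpos y
    omega
  obtain ⟨d, hd⟩ : ∃ d : ℕ, e = (d + 1 : ℕ) := ⟨(e - 1).toNat, by omega⟩
  let C : TopologicalSpace.Closeds Y := ⟨_, isClosed_fibreIntegral_le f hw hpos e⟩
  let I := Scheme.IdealSheafData.vanishingIdeal C
  have hrange : Set.range I.subschemeι = {y | MoreMor.fibreIntegral f w y ≤ e} := by
    rw [Scheme.IdealSheafData.range_subschemeι]
    simp [I, C]
  have hc := IsPullback.of_hasPullback f I.subschemeι
  let f' := pullback.snd f I.subschemeι
  haveI : LocallyQuasiFinite f' := MorphismProperty.pullback_snd _ _ ‹_›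
  haveI : IsAffine (pullback f I.subschemeι) := isAffine_of_isAffineHom (pullback.fst f I.subschemeι)
  haveI : I.subscheme.IsSeparated := by
    rw [Scheme.isSeparated_iff,
      show terminal.from I.subscheme = I.subschemeι ≫ terminal.from Y from Subsingleton.elim _ _]
    infer_instance
  have hw' := isWeighting_baseChange hw hc
  have hint : ∀ z, MoreMor.fibreIntegral f' (fun x ↦ w (pullback.fst f I.subschemeι x)) z =
      MoreMor.fibreIntegral f w (I.subschemeι z) := fun z ↦
    fibreIntegral_baseChange hc w z (finite_fibre_of_compactSpace f _)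
  have hle : ∀ z, MoreMor.fibreIntegral f w (I.subschemeι z) ≤ e := fun z ↦
    (hrange.le ⟨z, rfl⟩ : I.subschemeι z ∈ {y | MoreMor.fibreIntegral f w y ≤ e})
  haveI : IsAffineHom f' := ChevLib.isAffineHom_of_isSeparated f'
  let U : I.subscheme.Opens :=
    ⟨{z | e - 1 < MoreMor.fibreIntegral f' (fun x ↦ w (pullback.fst f I.subschemeι x)) z},
      LowerSemicontinuous.isOpen_preimage (lowerSemicontinuous_fibreIntegral
        (finite_fibre_of_compactSpace f') hw' (fun x ↦ hpos _)) _⟩
  have hU : ∀ z, z ∈ U ↔ MoreMor.fibreIntegral f w (I.subschemeι z) = e := fun z ↦ by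
    show e - 1 < _ ↔ _
    rw [hint]
    have := hle z
    omega
  have hUaff : IsAffineOpen U := isAffineOpen_max_locus f' hw' (fun x ↦ hpos _) d
    (fun z ↦ by rw [hint, ← hd]; exact hle z) U (fun z ↦ by rw [hU, hint, hd])
  haveI : IsAffine U.toScheme := hUaff
  refine ⟨U, U.ι ≫ I.subschemeι, inferInstance, inferInstance,
    ChevLib.isAffineHom_of_isSeparated _, ?_⟩
  ext y
  constructor
  · rintro ⟨z, rfl⟩
    exact (hU _).mp z.2
  · intro (hy : _ = e)
    obtain ⟨z, rfl⟩ : y ∈ Set.range I.subschemeι := by rw [hrange]; exact hy.le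
    exact ⟨⟨z, (hU z).mpr hy⟩, rfl⟩

end WeightLib
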