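import Groth.Agent.WeightLib.CFun
import Groth.Agent.WeightLib.MaxLocus
import Groth.Agent.UFinLib.Scheme

/-! Weightings descend along limits of affine schemes. -/

set_option autoImplicit false
universe u

open CategoryTheory CategoryTheory.Limits AlgebraicGeometry TopologicalSpace Topology

namespace WeightLib

theorem fibreIntegral_opens_congr {P V : Scheme.{u}} (π : P ⟶ V) {U U' : P.Opens} (h : U = U')
    (w : P → ℤ) (v : V) : MoreMor.fibreIntegral (U.ι ≫ π) (fun u ↦ w (U.ι u)) v =
      MoreMor.fibreIntegral (U'.ι ≫ π) (fun u ↦ w (U'.ι u)) v := by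
  subst h; rfl

variable {X0 Y0 Yu : Scheme.{u}} (f0 : X0 ⟶ Y0) (a : Yu ⟶ Y0) (Uu : (pullback f0 a).Opens)
  {T : Scheme.{u}} (t : T ⟶ Y0)

/-- The product of `X0` and `Yu` over `Y0`, pulled back to `T`, as an `X0`-object. -/
noncomputable abbrev prodT : Scheme.{u} := pullback f0 (pullback.fst a t ≫ a)

/-- The projection to `X0 ×_{Y0} Yu`. -/
noncomputable abbrev prodM : prodT f0 a t ⟶ pullback f0 a :=
  pullback.map _ _ _ _ (𝟙 X0) (pullback.fst a t) (𝟙 Y0)
    ((Category.comp_id _).trans (Category.id_comp _).symm) (Category.comp_id _)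

/-- The projection to `X0 ×_{Y0} T`. -/
noncomputable abbrev prodA : prodT f0 a t ⟶ pullback f0 t :=
  pullback.map _ _ _ _ (𝟙 X0) (pullback.snd a t) (𝟙 Y0)
    ((Category.comp_id _).trans (Category.id_comp _).symm)
    ((Category.comp_id _).trans pullback.condition)

theorem isPullback_prodM : IsPullback (prodM f0 a t) (pullback.snd f0 (pullback.fst a t ≫ a))
    (pullback.snd f0 a) (pullback.fst a t) := by
  refine IsPullback.of_right ?_ (pullback.lift_snd _ _ _) (IsPullback.of_hasPullback f0 a)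
  rw [show prodM f0 a t ≫ pullback.fst f0 a = pullback.fst _ _ from
    (pullback.lift_fst _ _ _).trans (Category.comp_id _)]
  exact IsPullback.of_hasPullback _ _

theorem isPullback_prodA : IsPullback (prodA f0 a t) (pullback.snd f0 (pullback.fst a t ≫ a))
    (pullback.snd f0 t) (pullback.snd a t) := by
  refine IsPullback.of_right ?_ (pullback.lift_snd _ _ _) (IsPullback.of_hasPullback f0 t)
  rw [show prodA f0 a t ≫ pullback.fst f0 t = pullback.fst _ _ from
    (pullback.lift_fst _ _ _).trans (Category.comp_id _), ← pullback.condition]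
  exact IsPullback.of_hasPullback _ _

/-- The fibre integrals over the universal finite open, as a function on `Yu ×_{Y0} T`. -/
noncomputable def univIntegral (w : ↥(pullback f0 t) → ℤ) (v : ↥(pullback a t)) : ℤ :=
  MoreMor.fibreIntegral ((prodM f0 a t ⁻¹ᵁ Uu).ι ≫ pullback.snd f0 (pullback.fst a t ≫ a))
    (fun u ↦ w (prodA f0 a t ((prodM f0 a t ⁻¹ᵁ Uu).ι u))) v

variable [IsFinite (Uu.ι ≫ pullback.snd f0 a)]

set_option backward.isDefEq.respectTransparency false in
/-- The universal integral is compatible with change of the base. -/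
theorem univIntegral_comp {T' : Scheme.{u}} (t' : T' ⟶ Y0) (μ : T' ⟶ T) (hμ : μ ≫ t = t')
    (w : ↥(pullback f0 t) → ℤ) (v : ↥(pullback a t')) :
    univIntegral f0 a Uu t'
      (fun x ↦ w (pullback.map f0 t' f0 t (𝟙 X0) μ (𝟙 Y0)
        ((Category.comp_id _).trans (Category.id_comp _).symm)
        ((Category.comp_id _).trans hμ.symm) x)) v =
      univIntegral f0 a Uu t w (pullback.map a t' a t (𝟙 Yu) μ (𝟙 Y0)
        ((Category.comp_id _).trans (Category.id_comp _).symm)
        ((Category.comp_id _).trans hμ.symm) v) := by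
  subst hμ
  let q := pullback.map a (μ ≫ t) a t (𝟙 Yu) μ (𝟙 Y0)
    ((Category.comp_id _).trans (Category.id_comp _).symm) (Category.comp_id _)
  have hq : q ≫ pullback.fst a t = pullback.fst a (μ ≫ t) :=
    (pullback.lift_fst _ _ _).trans (Category.comp_id _)
  let r : prodT f0 a (μ ≫ t) ⟶ prodT f0 a t := pullback.map _ _ _ _ (𝟙 X0) q (𝟙 Y0)
    ((Category.comp_id _).trans (Category.id_comp _).symm)
    ((Category.comp_id _).trans (by rw [← Category.assoc, hq]))
  have hr : IsPullback r (pullback.snd f0 (pullback.fst a (μ ≫ t) ≫ a))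
      (pullback.snd f0 (pullback.fst a t ≫ a)) q := by
    refine IsPullback.of_right ?_ (pullback.lift_snd _ _ _) (IsPullback.of_hasPullback f0 _)
    rw [show r ≫ pullback.fst _ _ = pullback.fst _ _ from
      (pullback.lift_fst _ _ _).trans (Category.comp_id _), ← Category.assoc, hq]
    exact IsPullback.of_hasPullback _ _
  have hrM : r ≫ prodM f0 a t = prodM f0 a (μ ≫ t) := by
    apply pullback.hom_ext <;> simp [r, prodM, q, pullback.map]
  have hrA : r ≫ prodA f0 a t = prodA f0 a (μ ≫ t) ≫ pullback.map f0 (μ ≫ t) f0 t (𝟙 X0) μ (𝟙 Y0)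
      ((Category.comp_id _).trans (Category.id_comp _).symm) (Category.comp_id _) := by
    apply pullback.hom_ext <;> simp [r, prodA, q, pullback.map]
  have := isFinite_restrict (isPullback_prodM f0 a t) Uu
  have h := fibreIntegral_restrict hr (prodM f0 a t ⁻¹ᵁ Uu) (fun p ↦ w (prodA f0 a t p)) v
  simp only [← Scheme.Hom.comp_apply r, hrA] at h
  refine Eq.trans ?_ h
  simp only [Scheme.Hom.comp_apply]
  exact (fibreIntegral_opens_congr _ ((Scheme.Hom.comp_preimage _ _ _).symm.trans
    (congrArg (· ⁻¹ᵁ Uu) hrM)) (fun p ↦ w (pullback.map f0 (μ ≫ t) f0 t (𝟙 X0) μ (𝟙 Y0)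
      ((Category.comp_id _).trans (Category.id_comp _).symm) (Category.comp_id _)
      (prodA f0 a (μ ≫ t) p))) v).symm

theorem isLocallyConstant_univIntegral [LocallyQuasiFinite f0] [LocallyOfFiniteType f0]
    {w : ↥(pullback f0 t) → ℤ} (hw : MoreMor.IsWeighting (pullback.snd f0 t) w) :
    IsLocallyConstant (univIntegral f0 a Uu t w) :=
  haveI := isFinite_restrict (isPullback_prodM f0 a t) Uu
  isLocallyConstant_fibreIntegral hw (isPullback_prodA f0 a t) (prodM f0 a t ⁻¹ᵁ Uu)

theorem cfun_univIntegral [IsAffine X0] [IsAffine Y0] [IsAffine Yu] [IsAffine T]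
    [LocallyQuasiFinite f0] [LocallyOfFinitePresentation f0]
    {w : ↥(pullback f0 t) → ℤ} (hw : CFun w) : CFun (univIntegral f0 a Uu t w) := by
  haveI := isFinite_restrict (isPullback_prodM f0 a t) Uu
  haveI : IsAffine (pullback a t) := inferInstance
  haveI : IsAffine (prodM f0 a t ⁻¹ᵁ Uu).toScheme :=
    isAffine_of_isAffineHom ((prodM f0 a t ⁻¹ᵁ Uu).ι ≫ pullback.snd f0 (pullback.fst a t ≫ a))
  exact cfun_fibreIntegral _ (hw.comp ((prodM f0 a t ⁻¹ᵁ Uu).ι ≫ prodA f0 a t))

set_option backward.isDefEq.respectTransparency false in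
/-- If the universal integral is locally constant then the function is a weighting. -/
theorem isWeighting_of_univIntegral [IsAffine T]
    (hu : ∀ (Y' : Scheme.{u}) (b : Y' ⟶ Y0) (U' : (pullback f0 b).Opens), IsAffine Y' →
      IsFinite (U'.ι ≫ pullback.snd f0 b) → ∃ (c : Y' ⟶ Yu) (hc : c ≫ a = b),
        (pullback.map f0 b f0 a (𝟙 X0) c (𝟙 Y0)
          ((Category.comp_id f0).trans (Category.id_comp f0).symm)
          ((Category.comp_id b).trans hc.symm)) ⁻¹ᵁ Uu = U')
    {w : ↥(pullback f0 t) → ℤ} (hlc : IsLocallyConstant (univIntegral f0 a Uu t w)) :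
    MoreMor.IsWeighting (pullback.snd f0 t) w := by
  intro V g _ U hU
  rw [IsLocallyConstant.iff_exists_open]
  intro v
  obtain ⟨_, ⟨N, hN, rfl⟩, hvN, -⟩ :=
    V.isBasis_affineOpens.exists_subset_of_mem_open (Set.mem_univ v) isOpen_univ
  change V.Opens at N
  haveI : IsAffine N.toScheme := hN
  let b : N.toScheme ⟶ Y0 := N.ι ≫ g ≫ t
  let P := pullback (pullback.snd f0 t) g
  let m : pullback f0 b ⟶ P := pullback.lift
    (pullback.lift (pullback.fst f0 b) (pullback.snd f0 b ≫ N.ι ≫ g)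
      (by rw [pullback.condition]; simp [b]))
    (pullback.snd f0 b ≫ N.ι) (by simp [b])
  have hm : IsPullback m (pullback.snd f0 b) (pullback.snd (pullback.snd f0 t) g) N.ι := by
    refine IsPullback.of_right (h₁₂ := pullback.fst _ _ ≫ pullback.fst f0 t) ?_
      (pullback.lift_snd _ _ _)
      ((IsPullback.of_hasPullback _ _).paste_horiz (IsPullback.of_hasPullback f0 t))
    rw [← Category.assoc, show m ≫ pullback.fst _ _ = _ from pullback.lift_fst _ _ _,
      pullback.lift_fst]
    exact IsPullback.of_hasPullback _ _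
  have hfin := isFinite_restrict hm U
  obtain ⟨c, hc, hcU⟩ := hu N.toScheme b (m ⁻¹ᵁ U) inferInstance hfin
  let l : N.toScheme ⟶ pullback a t := pullback.lift c (N.ι ≫ g) (by rw [hc]; simp [b])
  have hl : l ≫ pullback.fst a t ≫ a = b := by
    rw [← Category.assoc, pullback.lift_fst, hc]
  let r : pullback f0 b ⟶ prodT f0 a t := pullback.map _ _ _ _ (𝟙 X0) l (𝟙 Y0)
    ((Category.comp_id _).trans (Category.id_comp _).symm) ((Category.comp_id _).trans hl.symm)
  have hr : IsPullback r (pullback.snd f0 b) (pullback.snd f0 (pullback.fst a t ≫ a)) l := by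
    refine IsPullback.of_right ?_ (pullback.lift_snd _ _ _) (IsPullback.of_hasPullback f0 _)
    rw [show r ≫ pullback.fst _ _ = pullback.fst _ _ from
      (pullback.lift_fst _ _ _).trans (Category.comp_id _), hl]
    exact IsPullback.of_hasPullback _ _
  have hrM : r ⁻¹ᵁ prodM f0 a t ⁻¹ᵁ Uu = m ⁻¹ᵁ U := by
    rw [← Scheme.Hom.comp_preimage, ← hcU]
    refine congrArg (· ⁻¹ᵁ Uu) ?_
    apply pullback.hom_ext <;> simp [r, prodM, l, pullback.map]
  have hrA : r ≫ prodA f0 a t = m ≫ pullback.fst (pullback.snd f0 t) g := by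
    apply pullback.hom_ext <;> simp [r, prodA, m, l, pullback.map]
  have := isFinite_restrict (isPullback_prodM f0 a t) Uu
  have h1 := fun q ↦ fibreIntegral_restrict hr (prodM f0 a t ⁻¹ᵁ Uu)
    (fun p ↦ w (prodA f0 a t p)) q
  simp only [← Scheme.Hom.comp_apply r, hrA] at h1
  replace h1 : ∀ q, MoreMor.fibreIntegral ((m ⁻¹ᵁ U).ι ≫ pullback.snd f0 b)
      (fun u ↦ w (pullback.fst (pullback.snd f0 t) g (m ((m ⁻¹ᵁ U).ι u)))) q =
      univIntegral f0 a Uu t w (l q) := fun q ↦ by
    refine Eq.trans ?_ (h1 q)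
    simp only [Scheme.Hom.comp_apply]
    exact (fibreIntegral_opens_congr _ hrM
      (fun p ↦ w (pullback.fst (pullback.snd f0 t) g (m p))) q).symm
  have h2 := fun q ↦ fibreIntegral_restrict hm U
    (fun p ↦ w (pullback.fst (pullback.snd f0 t) g p)) q
  obtain ⟨W, hW, hW'⟩ := IsLocallyConstant.exists_opens_eq (hlc.comp_continuous l.continuous)
    (⟨v, hvN⟩ : N.toScheme)
  refine ⟨N.ι ''ᵁ W, (N.ι ''ᵁ W).2, ⟨_, hW, rfl⟩, ?_⟩
  rintro _ ⟨q, hq, rfl⟩
  refine (((h2 q).symm.trans (h1 q)).trans (hW' q hq)).trans ?_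
  exact ((h1 ⟨v, hvN⟩).symm.trans (h2 ⟨v, hvN⟩))

theorem exists_weighting_descent {I : Type u} [SmallCategory I] [IsCofiltered I]
    {D : I ⥤ Scheme.{u}} (c : Cone D) (hc : IsLimit c) [∀ i, IsAffine (D.obj i)] (i0 : I)
    {X0 : Scheme.{u}} [IsAffine X0] (f0 : X0 ⟶ D.obj i0) [LocallyQuasiFinite f0]
    [LocallyOfFinitePresentation f0] (w : ↥(pullback f0 (c.π.app i0)) → ℤ)
    (hw : MoreMor.IsWeighting (pullback.snd f0 (c.π.app i0)) w) :
    ∃ (j : Over i0) (wj : ↥(pullback f0 (D.map j.hom)) → ℤ),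
      MoreMor.IsWeighting (pullback.snd f0 (D.map j.hom)) wj ∧
      ∀ x, wj ((baseCone D c i0 f0).π.app j x) = w x := by
  obtain ⟨Yu, a, Uu, hYu, -, hfin, hu⟩ := UFinLib.exists_universal_open f0
  have : IsAffine ((Functor.const I).obj c.pt |>.obj i0) := Scheme.isAffine_of_isLimit c hc
  have hwc : CFun w := finite_range_of_forall w fun x ↦ exists_constructible_weight_eq hw x
  obtain ⟨j, g, hg, hgw⟩ := exists_cfun_comp_eq (isLimitBaseCone f0 hc) (f := w) hwc
  have hF := cfun_univIntegral f0 a Uu (D.map j.hom) hg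
  have hlim : IsLocallyConstant fun v ↦
      univIntegral f0 a Uu (D.map j.hom) g ((baseCone D c i0 a).π.app j v) := by
    refine (congrArg IsLocallyConstant (funext fun v ↦ ?_)).mp
      (isLocallyConstant_univIntegral f0 a Uu (c.π.app i0) hw)
    rw [show w = fun x ↦ g ((baseCone D c i0 f0).π.app j x) from funext fun x ↦ (hgw x).symm]
    exact univIntegral_comp f0 a Uu (D.map j.hom) (c.π.app i0) (c.π.app j.left) (c.w _) g v
  obtain ⟨k, e, hk⟩ := exists_isLocallyConstant_comp (isLimitBaseCone a hc) hF hlim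
  refine ⟨k, fun x ↦ g ((baseDiagram D i0 f0).map e x),
    isWeighting_of_univIntegral f0 a Uu (D.map k.hom) hu
      ((congrArg IsLocallyConstant (funext fun v ↦ ?_)).mp hk), fun x ↦ ?_⟩
  · exact (univIntegral_comp f0 a Uu (D.map j.hom) (D.map k.hom) (D.map e.left)
      (by rw [← Functor.map_comp, Over.w e]) g v).symm
  · rw [← hgw x, ← (baseCone D c i0 f0).w e]
    rfl

end WeightLib
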