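import Groth.Agent.WeightLib.Limit
import Groth.Agent.WeightLib.Stratum

/-! Fibre integrals of constructible functions. -/

set_option autoImplicit false
universe u

open CategoryTheory CategoryTheory.Limits AlgebraicGeometry TopologicalSpace Topology

namespace WeightLib

/-- The fibre integral of a constructible function is a constructible function. -/
theorem cfun_fibreIntegral {P V : Scheme.{u}} [IsAffine V] (π : P ⟶ V) [LocallyQuasiFinite π]
    [LocallyOfFinitePresentation π] [QuasiCompact π] [QuasiSeparated π] {w : P → ℤ} (hw : CFun w) :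
    CFun (MoreMor.fibreIntegral π w) := by
  classical
  refine finite_range_of_forall _ fun y ↦ ?_
  obtain ⟨V', _, g, _, v, n, W, C, hv, hW, hWs, hC, hvC, h⟩ := exists_stratum π y
  haveI := hW
  let π' := pullback.snd π g
  haveI : LocallyQuasiFinite π' := MorphismProperty.pullback_snd _ _ ‹_›
  haveI : QuasiCompact π' := MorphismProperty.pullback_snd _ _ ‹_›
  haveI : QuasiSeparated π' := MorphismProperty.pullback_snd _ _ ‹_›
  haveI : LocallyOfFinitePresentation π' := MorphismProperty.pullback_snd _ _ ‹_›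
  haveI : CompactSpace ↥(pullback π g) := QuasiCompact.compactSpace_of_compactSpace π'
  haveI : QuasiSeparatedSpace ↥(pullback π g) := quasiSeparatedSpace_of_quasiSeparated π'
  haveI : CompactSpace P := QuasiCompact.compactSpace_of_compactSpace π
  haveI : QuasiSeparatedSpace P := quasiSeparatedSpace_of_quasiSeparated π
  haveI : QuasiCompact g := quasiCompact_of_compactSpace g
  haveI : QuasiSeparated (pullback.fst π g) := inferInstance
  haveI : QuasiCompact (pullback.fst π g) := MorphismProperty.pullback_fst _ _ ‹_›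
  haveI hWa : ∀ i, IsAffine (W i).toScheme := fun i ↦ isAffine_of_isAffineHom ((W i).ι ≫ π')
  let ω : ∀ i, (W i).toScheme → ℤ := fun i u ↦ w (pullback.fst π g ((W i).ι u))
  let G : Fin n → V' → ℤ := fun i ↦ MoreMor.fibreIntegral ((W i).ι ≫ π') (ω i)
  let S : ∀ i, Set (W i).toScheme := fun i ↦ {u | ω i u = G i v}
  have hS : ∀ i, IsConstructible (S i) := fun i ↦
    Scheme.Hom.isConstructible_preimage ((W i).ι ≫ pullback.fst π g) (hw.2 (G i v))
  let M : Fin n → Set V' := fun i ↦ ((W i).ι ≫ π') '' S i ∪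
    if G i v = 0 then (((W i).ι ≫ π') '' Set.univ)ᶜ else ∅
  have hM : ∀ i, IsConstructible (M i) := fun i ↦ by
    refine (Scheme.Hom.isConstructible_image _ (hS i)).union ?_
    split_ifs
    · exact (Scheme.Hom.isConstructible_image _ IsConstructible.univ).compl
    · exact IsConstructible.empty
  have hG : ∀ q ∈ C, ∀ i, (G i q = G i v ↔ q ∈ M i) := by
    intro q hq i
    by_cases hex : ∃ u, ((W i).ι ≫ π') u = q
    · obtain ⟨u, hu⟩ := hex
      have hGu : G i q = ω i u := GSingle.fibreIntegral_eq ((h q hq).1 i) (ω i) hu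
      rw [hGu]
      refine ⟨fun he ↦ Or.inl ⟨u, he, hu⟩, ?_⟩
      rintro (⟨u', hu', hq'⟩ | hq')
      · rwa [GSingle.eq ((h q hq).1 i) hu hq']
      · split_ifs at hq' with h0
        · exact absurd ⟨u, trivial, hu⟩ hq'
        · exact hq'.elim
    · have h0 : G i q = 0 := by
        change MoreMor.fibreIntegral _ _ _ = 0
        rw [MoreMor.fibreIntegral]
        exact finsum_eq_zero_of_forall_eq_zero fun u ↦ absurd ⟨u.1, u.2⟩ hex
      rw [h0]
      refine ⟨fun he ↦ Or.inr ?_, ?_⟩
      · rw [if_pos he.symm]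
        exact fun ⟨u, _, hu⟩ ↦ hex ⟨u, hu⟩
      · rintro (⟨u', -, hq'⟩ | hq')
        · exact absurd ⟨u', hq'⟩ hex
        · split_ifs at hq' with h0'
          · exact h0'.symm
          · exact hq'.elim
  have hcalc : ∀ q ∈ C, MoreMor.fibreIntegral π w (g q) = ∑ i, G i q := fun q hq ↦ by
    rw [← fibreIntegral_baseChange (IsPullback.of_hasPullback π g) w q
      (π.finite_preimage_singleton _),
      ← fibreIntegral_top π' _ q (π'.finite_preimage_singleton q)]
    exact fibreIntegral_eq_sum π' ⊤ W (fun p ↦ w (pullback.fst π g p)) q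
      ((π'.finite_preimage_singleton q).preimage (f := fun u : (⊤ : (pullback π g).Opens).toScheme ↦
        ((⊤ : (pullback π g).Opens).ι u : ↥(pullback π g)))
        (⊤ : (pullback π g).Opens).ι.isOpenEmbedding.injective.injOn)
      (fun i ↦ Scheme.Hom.finite_preimage_singleton _ _)
      (fun p hp ↦ iff_of_true trivial ((h q hq).2 p hp).1)
      fun p i j hp ↦ ((h q hq).2 p hp).2 i j
  refine ⟨g '' (C ∩ ⋂ i, M i), Scheme.Hom.isConstructible_image g
    (hC.inter (IsConstructible.iInter hM)),
    ⟨v, ⟨hvC, Set.mem_iInter.mpr fun i ↦ (hG v hvC i).mp rfl⟩, hv⟩, ?_⟩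
  rintro _ ⟨q, ⟨hqC, hqN⟩, rfl⟩
  rw [← hv, hcalc q hqC, hcalc v hvC]
  exact Finset.sum_congr rfl fun i _ ↦ (hG q hqC i).mpr (Set.mem_iInter.mp hqN i)

end WeightLib
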