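import Groth.Agent.WeightLib.Pts
import Mathlib.AlgebraicGeometry.Morphisms.Finite
import Mathlib.AlgebraicGeometry.Morphisms.Proper

/-! Decomposing fibre integrals over a neighbourhood. -/

set_option autoImplicit false
set_option linter.style.haveILetI false
universe u

open AlgebraicGeometry CategoryTheory Limits IsLocalRing

namespace WeightLib

variable {P V : Scheme.{u}}

theorem img_opensι {Ω : Type u} [Field Ω] {U : P.Opens} (p : Spec (.of Ω) ⟶ U.toScheme) :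
    img (p ≫ U.ι) = (img p).1 := rfl

/-- If the fibre of `U` over `v` is the disjoint union of the fibres of the `W i`, the fibre
integral over `U` is the sum of the fibre integrals over the `W i`. -/
theorem fibreIntegral_eq_sum (π : P ⟶ V) (U : P.Opens) [LocallyQuasiFinite (U.ι ≫ π)]
    {ι : Type} [Fintype ι] (W : ι → P.Opens) [∀ i, LocallyQuasiFinite ((W i).ι ≫ π)]
    (w : P → ℤ) (v : V) (hU : ((U.ι ≫ π) ⁻¹' {v}).Finite)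
    (hW : ∀ i, (((W i).ι ≫ π) ⁻¹' {v}).Finite)
    (hc : ∀ p, π p = v → (p ∈ U ↔ ∃ i, p ∈ W i))
    (hd : ∀ p i j, π p = v → p ∈ W i → p ∈ W j → i = j) :
    MoreMor.fibreIntegral (U.ι ≫ π) (fun u ↦ w (U.ι u)) v =
      ∑ i, MoreMor.fibreIntegral ((W i).ι ≫ π) (fun u ↦ w ((W i).ι u)) v := by
  classical
  let pv := gpt v
  have hpv : img pv = v := img_gpt v
  haveI := finite_gpts (U.ι ≫ π) pv (by rw [hpv]; exact hU)
  haveI : ∀ i, Finite (GPts ((W i).ι ≫ π) pv) :=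
    fun i ↦ finite_gpts _ pv (by rw [hpv]; exact hW i)
  letI := Fintype.ofFinite (GPts (U.ι ≫ π) pv)
  letI : ∀ i, Fintype (GPts ((W i).ι ≫ π) pv) := fun i ↦ Fintype.ofFinite _
  rw [fibreIntegral_eq _ _ v hU pv hpv, finsum_eq_sum_of_fintype,
    Finset.sum_congr rfl fun i _ ↦ (fibreIntegral_eq _ (fun u ↦ w ((W i).ι u)) v (hW i) pv hpv).trans
      (finsum_eq_sum_of_fintype _), ← Fintype.sum_sigma']
  -- the map from the disjoint union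
  have hπ : ∀ s : Σ i, GPts ((W i).ι ≫ π) pv, π (img (s.2.1 ≫ (W s.1).ι)) = v := by
    intro s
    rw [← img_comp, Category.assoc, s.2.2, hpv]
  have hmem : ∀ s : Σ i, GPts ((W i).ι ≫ π) pv,
      Set.range (s.2.1 ≫ (W s.1).ι) ⊆ Set.range U.ι := by
    rintro s _ ⟨z, rfl⟩
    obtain rfl : z = closedPoint _ := Subsingleton.elim _ _
    rw [Scheme.Opens.range_ι]
    refine (hc _ (hπ s)).mpr ⟨s.1, ?_⟩
    exact (img s.2.1).2
  let Φ : (Σ i, GPts ((W i).ι ≫ π) pv) → GPts (U.ι ≫ π) pv := fun s ↦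
    ⟨IsOpenImmersion.lift U.ι (s.2.1 ≫ (W s.1).ι) (hmem s), by
      rw [← Category.assoc, IsOpenImmersion.lift_fac, Category.assoc, s.2.2]⟩
  have hΦ : ∀ s, (Φ s).1 ≫ U.ι = s.2.1 ≫ (W s.1).ι := fun s ↦ IsOpenImmersion.lift_fac ..
  refine (Fintype.sum_bijective Φ ⟨?_, ?_⟩ _ _ fun s ↦ ?_).symm
  · rintro ⟨i, a⟩ ⟨j, b⟩ h
    have h' : a.1 ≫ (W i).ι = b.1 ≫ (W j).ι := by rw [← hΦ ⟨i, a⟩, h, hΦ ⟨j, b⟩]
    obtain rfl : i = j := hd _ i j (hπ ⟨i, a⟩) (img a.1).2 (by rw [h']; exact (img b.1).2)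
    obtain rfl : a = b := Subtype.ext ((cancel_mono (W i).ι).mp h')
    rfl
  · intro q
    have hq : π (img q.1).1 = v := by
      rw [← img_opensι, ← img_comp, Category.assoc, q.2, hpv]
    obtain ⟨i, hi⟩ := (hc _ hq).mp (img q.1).2
    have hr : Set.range (q.1 ≫ U.ι) ⊆ Set.range (W i).ι := by
      rintro _ ⟨z, rfl⟩
      obtain rfl : z = closedPoint _ := Subsingleton.elim _ _
      rw [Scheme.Opens.range_ι]
      exact hi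
    refine ⟨⟨i, IsOpenImmersion.lift (W i).ι (q.1 ≫ U.ι) hr, ?_⟩, Subtype.ext ?_⟩
    · rw [← Category.assoc, IsOpenImmersion.lift_fac, Category.assoc, q.2]
    · rw [← cancel_mono U.ι, hΦ, IsOpenImmersion.lift_fac]
  · change w (img (s.2.1 ≫ (W s.1).ι)) = w (img ((Φ s).1 ≫ U.ι))
    rw [hΦ s]

theorem isClosed_image_opens_inter (π : P ⟶ V) (U : P.Opens) [UniversallyClosed (U.ι ≫ π)]
    {C : Set P} (hC : IsClosed C) : IsClosed (π '' ((U : Set P) ∩ C)) := by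
  have := (U.ι ≫ π).isClosedMap _ (hC.preimage U.ι.continuous)
  rwa [Scheme.Hom.comp_base, TopCat.coe_comp, Set.image_comp, Set.image_preimage_eq_range_inter,
    Scheme.Opens.range_ι] at this

theorem exists_nhd_subset (π : P ⟶ V) (W U : P.Opens) [UniversallyClosed (W.ι ≫ π)] (v : V)
    (h : ∀ p, π p = v → p ∈ W → p ∈ U) :
    ∃ N : V.Opens, v ∈ N ∧ ∀ p, π p ∈ N → p ∈ W → p ∈ U := by
  refine ⟨⟨(π '' ((W : Set P) ∩ (U : Set P)ᶜ))ᶜ,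
    (isClosed_image_opens_inter π W U.isOpen.isClosed_compl).isOpen_compl⟩, ?_, ?_⟩
  · rintro ⟨p, ⟨h₁, h₂⟩, hp⟩
    exact h₂ (h p hp h₁)
  · intro p hp hW
    by_contra hU
    exact hp ⟨p, ⟨hW, hU⟩, rfl⟩

/-- An open piece which is finite over the base is relatively closed in a bigger separated one. -/
theorem exists_closed_inter_eq (π : P ⟶ V) (W U : P.Opens) [IsFinite (W.ι ≫ π)]
    [IsSeparated (U.ι ≫ π)] (N : V.Opens) (h : ∀ p, π p ∈ N → p ∈ W → p ∈ U) :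
    ∃ C : Set P, IsClosed C ∧ ∀ p, π p ∈ N → (p ∈ W ↔ p ∈ U ∧ p ∈ C) := by
  let SW := (W.ι ≫ π) ⁻¹ᵁ N
  let SU := (U.ι ≫ π) ⁻¹ᵁ N
  have hr : Set.range (SW.ι ≫ W.ι) ⊆ Set.range (SU.ι ≫ U.ι) := by
    rintro _ ⟨z, rfl⟩
    exact ⟨⟨⟨z.1.1, h _ z.2 z.1.2⟩, z.2⟩, rfl⟩
  let k : SW.toScheme ⟶ SU.toScheme := IsOpenImmersion.lift (SU.ι ≫ U.ι) (SW.ι ≫ W.ι) hr
  have hk : k ≫ SU.ι ≫ U.ι = SW.ι ≫ W.ι := IsOpenImmersion.lift_fac ..
  have hkN : k ≫ ((U.ι ≫ π) ∣_ N) = (W.ι ≫ π) ∣_ N := by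
    rw [← cancel_mono N.ι, Category.assoc, morphismRestrict_ι, morphismRestrict_ι]
    change k ≫ SU.ι ≫ U.ι ≫ π = SW.ι ≫ W.ι ≫ π
    rw [reassoc_of% hk]
  haveI : IsFinite (k ≫ ((U.ι ≫ π) ∣_ N)) := by rw [hkN]; infer_instance
  haveI : IsFinite k := IsFinite.of_comp k ((U.ι ≫ π) ∣_ N)
  obtain ⟨C, hC, hCk⟩ := (SU.ι ≫ U.ι).isOpenEmbedding.isInducing.isClosed_iff.mp
    k.isClosedMap.isClosed_range
  refine ⟨C, hC, fun p hp ↦ ⟨fun hW ↦ ⟨h p hp hW, ?_⟩, fun ⟨hU, hpC⟩ ↦ ?_⟩⟩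
  · have hz : k ⟨⟨p, hW⟩, hp⟩ ∈ Set.range k := ⟨_, rfl⟩
    rw [← hCk] at hz
    have : (SU.ι ≫ U.ι) (k ⟨⟨p, hW⟩, hp⟩) = p := by
      rw [← Scheme.Hom.comp_apply, hk]
      rfl
    exact this ▸ hz
  · obtain ⟨z, hz⟩ : (⟨⟨p, hU⟩, hp⟩ : SU.toScheme) ∈ Set.range k := by
      rw [← hCk]; exact hpC
    have : (SW.ι ≫ W.ι) z = p := by
      rw [← hk, Scheme.Hom.comp_apply, hz]
      rfl
    exact this ▸ z.1.2

/-- A partition of the fibre into fibres of finite opens spreads to a neighbourhood. -/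
theorem exists_nhd_partition (π : P ⟶ V) (U : P.Opens) [IsFinite (U.ι ≫ π)]
    {ι : Type} [Finite ι] (W : ι → P.Opens) [∀ i, IsFinite ((W i).ι ≫ π)] (v : V)
    (hc : ∀ p, π p = v → (p ∈ U ↔ ∃ i, p ∈ W i))
    (hd : ∀ p i j, π p = v → p ∈ W i → p ∈ W j → i = j) :
    ∃ N : V.Opens, v ∈ N ∧ ∀ p, π p ∈ N → (p ∈ U ↔ ∃ i, p ∈ W i) ∧
      ∀ i j, p ∈ W i → p ∈ W j → i = j := by
  choose N₁ hv₁ hN₁ using fun i ↦
    exists_nhd_subset π (W i) U v fun p hp hpW ↦ (hc p hp).mpr ⟨i, hpW⟩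
  let N : V.Opens := ⟨⋂ i, (N₁ i : Set V), isOpen_iInter_of_finite fun i ↦ (N₁ i).isOpen⟩
  have hvN : v ∈ N := Set.mem_iInter.mpr hv₁
  have hN : ∀ i p, π p ∈ N → p ∈ W i → p ∈ U := fun i p hp ↦ hN₁ i p (Set.mem_iInter.mp hp i)
  choose C hCc hC using fun i ↦ exists_closed_inter_eq π (W i) U N (hN i)
  obtain ⟨N₂, hv₂, hN₂⟩ := exists_nhd_subset π U (⨆ i, W i) v fun p hp hpU ↦
    TopologicalSpace.Opens.mem_iSup.mpr ((hc p hp).mp hpU)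
  let B : Set V := ⋃ (x : {x : ι × ι // x.1 ≠ x.2}), π '' ((U : Set P) ∩ (C x.1.1 ∩ C x.1.2))
  have hB : IsClosed B := isClosed_iUnion_of_finite fun x ↦
    isClosed_image_opens_inter π U ((hCc _).inter (hCc _))
  refine ⟨N ⊓ N₂ ⊓ ⟨Bᶜ, hB.isOpen_compl⟩, ⟨⟨hvN, hv₂⟩, ?_⟩, ?_⟩
  · simp only [B, TopologicalSpace.Opens.coe_mk, Set.mem_compl_iff, Set.mem_iUnion]
    rintro ⟨⟨⟨i, j⟩, hij⟩, p, ⟨hpU, hpi, hpj⟩, hp⟩
    have hpN : π p ∈ N := by rw [show π p = v from hp]; exact hvN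
    exact hij (hd p i j hp ((hC i p hpN).mpr ⟨hpU, hpi⟩) ((hC j p hpN).mpr ⟨hpU, hpj⟩))
  · rintro p ⟨⟨hpN, hp₂⟩, hpB⟩
    refine ⟨⟨fun h ↦ TopologicalSpace.Opens.mem_iSup.mp (hN₂ p hp₂ h),
      fun ⟨i, hi⟩ ↦ hN i p hpN hi⟩, fun i j hi hj ↦ ?_⟩
    by_contra hij
    obtain ⟨hU, hCi⟩ := (hC i p hpN).mp hi
    exact hpB (Set.mem_iUnion.mpr ⟨⟨(i, j), hij⟩, p, ⟨hU, hCi, ((hC j p hpN).mp hj).2⟩, rfl⟩)

/-- The two statements combined. -/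
theorem exists_nhd_fibreIntegral_eq_sum (π : P ⟶ V) (U : P.Opens) [IsFinite (U.ι ≫ π)]
    {ι : Type} [Fintype ι] (W : ι → P.Opens) [∀ i, IsFinite ((W i).ι ≫ π)] (v : V)
    (hc : ∀ p, π p = v → (p ∈ U ↔ ∃ i, p ∈ W i))
    (hd : ∀ p i j, π p = v → p ∈ W i → p ∈ W j → i = j) (w : P → ℤ) :
    ∃ N : V.Opens, v ∈ N ∧ ∀ v' ∈ N, MoreMor.fibreIntegral (U.ι ≫ π) (fun u ↦ w (U.ι u)) v' =
      ∑ i, MoreMor.fibreIntegral ((W i).ι ≫ π) (fun u ↦ w ((W i).ι u)) v' := by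
  obtain ⟨N, hv, hN⟩ := exists_nhd_partition π U W v hc hd
  refine ⟨N, hv, fun v' hv' ↦ fibreIntegral_eq_sum π U W w v' (Scheme.Hom.finite_preimage_singleton _ _)
    (fun i ↦ Scheme.Hom.finite_preimage_singleton _ _)
    (fun p hp ↦ (hN p (hp ▸ hv')).1) fun p i j hp ↦ (hN p (hp ▸ hv')).2 i j⟩

end WeightLib
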