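import Groth.Agent.WeightLib.Constr
import Mathlib.AlgebraicGeometry.AffineTransitionLimit

/-! Constructible sets and functions on cofiltered limits of affine schemes. -/

set_option autoImplicit false
universe u

open CategoryTheory CategoryTheory.Limits AlgebraicGeometry TopologicalSpace Topology

namespace WeightLib

/-- A function with finitely many values and constructible level sets. -/
def CFun {X : Type*} [TopologicalSpace X] (f : X → ℤ) : Prop :=
  (Set.range f).Finite ∧ ∀ t, IsConstructible (f ⁻¹' {t})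

theorem CFun.comp {X Y : Scheme.{u}} {f : Y → ℤ} (hf : CFun f) (g : X ⟶ Y) [QuasiCompact g]
    [CompactSpace Y] [QuasiSeparatedSpace Y] : CFun (fun x ↦ f (g x)) :=
  ⟨hf.1.subset (by rintro _ ⟨x, rfl⟩; exact ⟨_, rfl⟩),
    fun t ↦ Scheme.Hom.isConstructible_preimage g (hf.2 t)⟩

section Diagram

variable {I : Type u} [SmallCategory I] (D : I ⥤ Scheme.{u}) (c : Cone D) (i0 : I)
  {Z : Scheme.{u}} (z : Z ⟶ D.obj i0)

set_option backward.isDefEq.respectTransparency false in
/-- The base change of a diagram along a morphism to one of its members. -/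
noncomputable def baseDiagram : Over i0 ⥤ Scheme.{u} where
  obj j := pullback z (D.map j.hom)
  map {j k} g := pullback.map z (D.map j.hom) z (D.map k.hom) (𝟙 Z) (D.map g.left) (𝟙 _)
    ((Category.comp_id _).trans (Category.id_comp _).symm)
    (by rw [Category.comp_id, ← Functor.map_comp, Over.w g])
  map_id j := by apply pullback.hom_ext <;> simp [pullback.map]
  map_comp {j k l} g h := by apply pullback.hom_ext <;> simp [pullback.map]

set_option backward.isDefEq.respectTransparency false in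
/-- The base change of a cone. -/
noncomputable def baseCone : Cone (baseDiagram D i0 z) where
  pt := pullback z (c.π.app i0)
  π :=
    { app := fun j ↦ pullback.map z (c.π.app i0) z (D.map j.hom) (𝟙 Z) (c.π.app j.left) (𝟙 _)
        ((Category.comp_id _).trans (Category.id_comp _).symm)
        (by rw [Category.comp_id, c.w])
      naturality := fun j k g ↦ by
        apply pullback.hom_ext <;> simp [baseDiagram, pullback.map] }

variable {D c i0}

theorem isPullback_baseMap {j k : Over i0} (g : j ⟶ k) : IsPullback ((baseDiagram D i0 z).map g)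
    (pullback.snd z (D.map j.hom)) (pullback.snd z (D.map k.hom)) (D.map g.left) := by
  refine IsPullback.of_right ?_ (pullback.lift_snd _ _ _)
    (IsPullback.of_hasPullback z (D.map k.hom))
  rw [show (baseDiagram D i0 z).map g ≫ pullback.fst _ _ = pullback.fst z (D.map j.hom) from
    (pullback.lift_fst _ _ _).trans (Category.comp_id _), ← Functor.map_comp, Over.w g]
  exact IsPullback.of_hasPullback _ _

theorem isPullback_basePi (j : Over i0) : IsPullback ((baseCone D c i0 z).π.app j)
    (pullback.snd z (c.π.app i0)) (pullback.snd z (D.map j.hom)) (c.π.app j.left) := by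
  refine IsPullback.of_right ?_ (pullback.lift_snd _ _ _)
    (IsPullback.of_hasPullback z (D.map j.hom))
  rw [show (baseCone D c i0 z).π.app j ≫ pullback.fst _ _ = pullback.fst z (c.π.app i0) from
    (pullback.lift_fst _ _ _).trans (Category.comp_id _), c.w]
  exact IsPullback.of_hasPullback _ _

attribute [local instance] CategoryTheory.isConnected_of_hasTerminal

/-- The base change of a limit cone is a limit cone. -/
noncomputable def isLimitBaseCone [IsCofiltered I] (hc : IsLimit c) :
    IsLimit (baseCone D c i0 z) :=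
  isLimitOfIsPullbackOfIsConnected
    (G := Over.forget i0 ⋙ D)
    { app := fun j ↦ pullback.snd z (D.map j.hom)
      naturality := fun _ _ g ↦ (isPullback_baseMap z g).w }
    (baseCone D c i0 z) (c.whisker (Over.forget i0))
    { hom := pullback.snd z (c.π.app i0)
      w := fun j ↦ (isPullback_basePi z j).w.symm }
    (fun j ↦ isPullback_basePi z j)
    ((Functor.Initial.isLimitWhiskerEquiv (Over.forget i0) c).symm hc)

instance [IsAffine Z] [∀ i, IsAffine (D.obj i)] (j : Over i0) :
    IsAffine ((baseDiagram D i0 z).obj j) :=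
  inferInstanceAs (IsAffine (pullback z (D.map j.hom)))

end Diagram

section Limit

variable {I : Type u} [SmallCategory I] [IsCofiltered I] {D : I ⥤ Scheme.{u}} {c : Cone D}
  (hc : IsLimit c) [∀ i, IsAffine (D.obj i)]

theorem preimage_preimage_map {i j : I} (g : i ⟶ j) (S : Set (D.obj j)) :
    c.π.app i ⁻¹' (D.map g ⁻¹' S) = c.π.app j ⁻¹' S := by
  rw [← Set.preimage_comp, ← c.w g]
  rfl

theorem preimage_map_map {i j k : I} (g : i ⟶ j) (h : j ⟶ k) (S : Set (D.obj k)) :
    D.map g ⁻¹' (D.map h ⁻¹' S) = D.map (g ≫ h) ⁻¹' S := by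
  rw [D.map_comp, ← Set.preimage_comp]
  rfl

include hc

theorem exists_constructible_preimage_eq {S : Set c.pt} (hS : IsConstructible S) :
    ∃ (i : I) (T : Set (D.obj i)), IsConstructible T ∧ c.π.app i ⁻¹' T = S := by
  have := Scheme.isAffine_of_isLimit c hc
  induction hS using IsConstructible.empty_union_induction with
  | open_retrocompact U hU hUc =>
    obtain ⟨i, V, hV, hVU⟩ := exists_preimage_eq D c hc ⟨U, hU⟩ hUc.isCompact
    exact ⟨i, V, hV.isConstructible V.2, congrArg SetLike.coe hVU⟩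
  | union s _ t _ hs ht =>
    obtain ⟨i, S, hS, rfl⟩ := hs
    obtain ⟨j, T, hT, rfl⟩ := ht
    refine ⟨IsCofiltered.min i j, D.map (IsCofiltered.minToLeft i j) ⁻¹' S ∪
      D.map (IsCofiltered.minToRight i j) ⁻¹' T,
      (Scheme.Hom.isConstructible_preimage _ hS).union (Scheme.Hom.isConstructible_preimage _ hT),
      ?_⟩
    rw [Set.preimage_union, preimage_preimage_map, preimage_preimage_map]
  | compl s _ hs =>
    obtain ⟨i, S, hS, rfl⟩ := hs
    exact ⟨i, Sᶜ, hS.compl, Set.preimage_compl⟩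

theorem exists_preimage_map_eq_empty {i : I} {T : Set (D.obj i)} (hT : IsConstructible T)
    (h : c.π.app i ⁻¹' T = ∅) : ∃ (j : I) (g : j ⟶ i), D.map g ⁻¹' T = ∅ := by
  induction T, hT using BooleanSubalgebra.closure_sdiff_sup_induction with
  | isSublattice =>
    exact ⟨fun s hs t ht ↦ ⟨hs.1.union ht.1, hs.2.union ht.2⟩,
      fun s hs t ht ↦ ⟨hs.1.inter ht.1, hs.2.inter_isOpen ht.2 ht.1⟩⟩
  | bot_mem => exact ⟨isOpen_empty, .empty⟩
  | top_mem => exact ⟨isOpen_univ, .univ⟩
  | sdiff U hU V hV =>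
    obtain ⟨j, g, hg⟩ := exists_map_preimage_le_map_preimage D c hc (U := ⟨U, hU.1⟩)
      (V := ⟨V, hV.1⟩) hU.2.isCompact (fun x hx ↦ by
        by_contra hx'
        exact (Set.eq_empty_iff_forall_notMem.mp h x) ⟨hx, hx'⟩)
    refine ⟨j, g, Set.eq_empty_iff_forall_notMem.mpr fun x hx ↦ hx.2 (hg hx.1)⟩
  | sup S hS T hT ihS ihT =>
    obtain ⟨h1, h2⟩ := Set.union_empty_iff.mp (Set.preimage_union.symm.trans h)
    obtain ⟨j, g, hg⟩ := ihS h1
    obtain ⟨k, g', hg'⟩ := ihT h2
    obtain ⟨l, a, b, hab⟩ := IsCofiltered.cospan g g'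
    refine ⟨l, a ≫ g, ?_⟩
    show D.map (a ≫ g) ⁻¹' (S ∪ T) = ∅
    rw [Set.preimage_union, ← preimage_map_map, hg, hab, ← preimage_map_map, hg',
      Set.preimage_empty, Set.preimage_empty, Set.union_empty]

theorem exists_preimage_map_eq {i : I} {S T : Set (D.obj i)} (hS : IsConstructible S)
    (hT : IsConstructible T) (h : c.π.app i ⁻¹' S = c.π.app i ⁻¹' T) :
    ∃ (j : I) (g : j ⟶ i), D.map g ⁻¹' S = D.map g ⁻¹' T := by
  obtain ⟨j, g, hg⟩ := exists_preimage_map_eq_empty hc ((hS.sdiff hT).union (hT.sdiff hS))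
    (by rw [Set.preimage_union, Set.preimage_sdiff, Set.preimage_sdiff, h, Set.sdiff_self,
      Set.union_self])
  refine ⟨j, g, Set.ext fun x ↦ ?_⟩
  have := Set.eq_empty_iff_forall_notMem.mp hg x
  simp only [Set.mem_preimage, Set.mem_union, Set.mem_sdiff] at this ⊢
  tauto

theorem exists_cfun_comp_eq {f : c.pt → ℤ} (hf : CFun f) :
    ∃ (i : I) (g : D.obj i → ℤ), CFun g ∧ ∀ x, g (c.π.app i x) = f x := by
  classical
  choose i T hT hTf using fun t ↦ exists_constructible_preimage_eq hc (hf.2 t)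
  let s := hf.1.toFinset
  obtain ⟨j, hj⟩ := IsCofiltered.inf_objs_exists (s.image i)
  let a : ∀ t : s, j ⟶ i t := fun t ↦ (hj (Finset.mem_image_of_mem i t.2)).some
  let T' : s → Set (D.obj j) := fun t ↦ D.map (a t) ⁻¹' T t
  have hT' : ∀ t, IsConstructible (T' t) := fun t ↦ Scheme.Hom.isConstructible_preimage _ (hT t)
  let κ : D.obj j → (s → Prop) := fun x t ↦ x ∈ T' t
  let g : D.obj j → ℤ := fun x ↦ ∑ t : s, if κ x t then (t : ℤ) else 0
  obtain ⟨hfin, hlev⟩ := finite_range_of_forall g fun x ↦ by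
    refine ⟨⋂ t : s, if x ∈ T' t then T' t else (T' t)ᶜ, IsConstructible.iInter fun t ↦ ?_,
      Set.mem_iInter.mpr fun t ↦ ?_, fun y hy ↦ Finset.sum_congr rfl fun t _ ↦ ?_⟩
    · split_ifs
      exacts [hT' t, (hT' t).compl]
    · split_ifs with h <;> exact h
    · have := Set.mem_iInter.mp hy t
      by_cases h : x ∈ T' t
      · rw [if_pos h] at this
        rw [if_pos (show κ y t from this), if_pos (show κ x t from h)]
      · rw [if_neg h] at this
        rw [if_neg (show ¬κ y t from this), if_neg (show ¬κ x t from h)]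
  refine ⟨j, g, ⟨hfin, hlev⟩, fun x ↦ ?_⟩
  have hx : ∀ t : s, κ (c.π.app j x) t ↔ f x = t := fun t ↦ by
    have h1 : c.π.app j ⁻¹' T' t = f ⁻¹' {(t : ℤ)} :=
      (preimage_preimage_map (a t) (T t)).trans (hTf t)
    exact (Set.ext_iff.mp h1 x :)
  have hmem : f x ∈ s := hf.1.mem_toFinset.mpr ⟨x, rfl⟩
  simp only [g, hx]
  rw [Finset.sum_eq_single (⟨f x, hmem⟩ : s)]
  · simp
  · intro t _ ht
    rw [if_neg fun h ↦ ht (Subtype.ext h.symm)]
  · simp

theorem exists_isLocallyConstant_comp {i : I} {g : D.obj i → ℤ} (hg : CFun g)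
    (hlc : IsLocallyConstant fun x ↦ g (c.π.app i x)) :
    ∃ (j : I) (a : j ⟶ i), IsLocallyConstant fun x ↦ g (D.map a x) := by
  classical
  have := Scheme.isAffine_of_isLimit c hc
  let f : c.pt → ℤ := fun x ↦ g (c.π.app i x)
  have key : ∀ t : ℤ, ∃ (j : I) (a : j ⟶ i), IsOpen (D.map a ⁻¹' (g ⁻¹' {t})) := by
    intro t
    obtain ⟨k, V, hV, hVt⟩ := exists_preimage_eq D c hc ⟨f ⁻¹' {t}, hlc _⟩
      (IsClosed.isCompact (X := c.pt) (hlc.isClosed_fiber t))
    obtain ⟨l, a, b, -⟩ : ∃ (l : I) (a : l ⟶ i) (_ : l ⟶ k), True :=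
      ⟨_, IsCofiltered.minToLeft i k, IsCofiltered.minToRight i k, trivial⟩
    obtain ⟨m, e, he⟩ := exists_preimage_map_eq hc (i := l)
      (Scheme.Hom.isConstructible_preimage (D.map a) (hg.2 t))
      (Scheme.Hom.isConstructible_preimage (D.map b) (hV.isConstructible V.2))
      (by rw [preimage_preimage_map, preimage_preimage_map]
          exact (congrArg SetLike.coe hVt).symm)
    refine ⟨m, e ≫ a, ?_⟩
    rw [← preimage_map_map, he]
    exact ((D.map b ⁻¹ᵁ V).2.preimage (D.map e).continuous)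
  choose j a ha using key
  let s := hg.1.toFinset
  obtain ⟨k, hk⟩ := IsCofiltered.inf_objs_exists (insert i (s.image j))
  let b : ∀ t : s, k ⟶ j t :=
    fun t ↦ (hk (Finset.mem_insert_of_mem (Finset.mem_image_of_mem j t.2))).some
  let b0 : k ⟶ i := (hk (Finset.mem_insert_self _ _)).some
  obtain ⟨l, e, he⟩ : ∃ (l : I) (e : l ⟶ k), ∀ t : s, e ≫ b t ≫ a t = e ≫ b0 := by
    have : ∀ u : Finset s, ∃ (l : I) (e : l ⟶ k), ∀ t ∈ u, e ≫ b t ≫ a t = e ≫ b0 := by
      intro u
      induction u using Finset.induction_on with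
      | empty => exact ⟨k, 𝟙 k, fun t ht ↦ absurd ht (Finset.notMem_empty t)⟩
      | @insert t u _ ih =>
        obtain ⟨l, e, he⟩ := ih
        refine ⟨_, IsCofiltered.eqHom (e ≫ b t ≫ a t) (e ≫ b0) ≫ e, fun t' ht' ↦ ?_⟩
        obtain rfl | ht' := Finset.mem_insert.mp ht'
        · simp only [Category.assoc]
          exact IsCofiltered.eq_condition _ _
        · simp only [Category.assoc, he t' ht']
    obtain ⟨l, e, he⟩ := this Finset.univ
    exact ⟨l, e, fun t ↦ he t (Finset.mem_univ t)⟩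
  refine ⟨l, e ≫ b0, fun S ↦ ?_⟩
  rw [← Set.biUnion_of_singleton S, Set.preimage_iUnion₂]
  refine isOpen_biUnion fun t _ ↦ ?_
  by_cases ht : t ∈ s
  · have : (fun x ↦ g (D.map (e ≫ b0) x)) ⁻¹' {t} =
        D.map (e ≫ b ⟨t, ht⟩) ⁻¹' (D.map (a t) ⁻¹' (g ⁻¹' {t})) := by
      rw [preimage_map_map, Category.assoc, he ⟨t, ht⟩]
      rfl
    rw [this]
    exact (ha t).preimage (D.map _).continuous
  · convert isOpen_empty
    exact Set.eq_empty_iff_forall_notMem.mpr fun x hx ↦ ht (hg.1.mem_toFinset.mpr ⟨_, hx⟩)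

end Limit

end WeightLib
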